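import Groth.Agent.H88.Restrict
import Mathlib.CategoryTheory.Adjunction.Whiskering

/-!
Restriction along etale morphisms commutes with sheafification; locality of vanishing.
-/

universe u

open CategoryTheory CategoryTheory.Limits AlgebraicGeometry Opposite

namespace Groth.Agent.H88.RestrSheafify

variable {X W : Scheme.{u}} (π : W ⟶ X) [Etale π]

/-- Restriction of presheaves is left adjoint to precomposition with base change. -/
noncomputable def preAdj :
    (Functor.whiskeringLeft _ _ AddCommGrpCat.{u + 1}).obj (EtShriek.compEtale π).op ⊣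
      (Functor.whiskeringLeft _ _ AddCommGrpCat.{u + 1}).obj (EtCoh.bc π).op :=
  (Lib.EtJ.Basic.compEtaleAdj π).op.whiskerLeft AddCommGrpCat.{u + 1}

/-- Restriction commutes with sheafification. -/
noncomputable def restrSheafifyIso :
    presheafToSheaf X.smallEtaleTopology AddCommGrpCat.{u + 1} ⋙ EtShriek.restrAlong π ≅
      (Functor.whiskeringLeft _ _ AddCommGrpCat.{u + 1}).obj (EtShriek.compEtale π).op ⋙
        presheafToSheaf W.smallEtaleTopology AddCommGrpCat.{u + 1} :=
  Adjunction.leftAdjointUniq
    ((sheafificationAdjunction X.smallEtaleTopology AddCommGrpCat.{u + 1}).comp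
      (Lib.EtJ.Basic.restrPushAdj π))
    (((preAdj π).comp (sheafificationAdjunction W.smallEtaleTopology AddCommGrpCat.{u + 1})).ofNatIsoRight
      (Iso.refl _))

/-- The presheaf tensor product as a function of isomorphisms. -/
noncomputable def tensorPreIso {A A' B B' : EtCoh.Ab X} (a : A ≅ A') (b : B ≅ B') :
    EtDual.tensorPre A B ≅ EtDual.tensorPre A' B' :=
  NatIso.ofComponents
    (fun V => AddEquiv.toAddCommGrpIso (TensorProduct.congr
      (((sheafToPresheaf _ _).mapIso a).app V).addCommGroupIsoToAddEquiv.toIntLinearEquiv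
      (((sheafToPresheaf _ _).mapIso b).app V).addCommGroupIsoToAddEquiv.toIntLinearEquiv).toAddEquiv)
    (fun {V V'} f => by
      refine AddCommGrpCat.hom_ext (DFunLike.ext _ _ fun t => ?_)
      induction t using TensorProduct.induction_on with
      | zero => exact ((map_zero _).trans (map_zero _).symm)
      | tmul x y =>
        have ha := congrArg (fun m => m.hom x) (a.hom.hom.naturality f)
        have hb := congrArg (fun m => m.hom y) (b.hom.hom.naturality f)
        exact congrArg₂ (fun p q => p ⊗ₜ[ℤ] q) ha hb
      | add x y hx hy => exact (map_add _ x y).trans ((congrArg₂ (· + ·) hx hy).trans (map_add _ x y).symm))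

/-- Restriction of a tensor product. -/
noncomputable def restrTensorIso (A B : EtCoh.Ab X) :
    (EtShriek.restrAlong π).obj (EtDual.tensorAb A B) ≅
      EtDual.tensorAb ((EtShriek.restrAlong π).obj A) ((EtShriek.restrAlong π).obj B) :=
  (restrSheafifyIso π).app (EtDual.tensorPre A B)

/-- Restriction of a constant sheaf. -/
noncomputable def restrConstIso (M : Type) [AddCommGroup M] :
    (EtShriek.restrAlong π).obj (EtCoh.const X M) ≅ EtCoh.const W M :=
  (restrSheafifyIso π).app ((Functor.const _).obj (AddCommGrpCat.of (ULift.{u + 1} M)))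

/-- A sheaf that vanishes after restriction to the members of a covering vanishes. -/
theorem isZero_of_covers {ι : Type u} {V : ι → X.Etale} (hV : EtCoh.Covers V) (F : EtCoh.Ab X)
    (h : ∀ a, IsZero ((EtShriek.restrAlong (V a).hom).obj F)) : IsZero F := by
  rw [IsZero.iff_id_eq_zero]
  ext T s
  obtain ⟨T⟩ := T
  change (s : F.obj.obj (op T)) = 0
  let S : Sieve T :=
    { arrows := fun Y f => F.obj.map f.op s = 0
      downward_closed := fun {Y Z f} hf g => by
        exact (Restrict.map_comp_apply F.obj f.op g.op s).trans ((congrArg (fun t => F.obj.map g.op t) hf).trans (map_zero _)) }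
  have hS : S ∈ X.smallEtaleTopology T := by
    rw [show X.smallEtaleTopology = (X.smallPretopology (P := EtCoh.etaleMP) (Q := EtCoh.etaleMP)).toGrothendieck
      from Scheme.smallGrothendieckTopology_eq_toGrothendieck_smallPretopology X le_rfl]
    refine (Scheme.mem_toGrothendieck_smallPretopology T S).2 fun t => ?_
    obtain ⟨a, v, hv⟩ := hV (T.hom.base t)
    obtain ⟨z, hz, -⟩ := Scheme.Pullback.exists_preimage_pullback (f := T.hom) (g := (V a).hom) t v hv.symm
    let T₀ : (V a).left.Etale := MorphismProperty.Over.mk ⊤ (pullback.snd T.hom (V a).hom)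
      (EtCoh.etaleMP.pullback_snd _ _ T.prop)
    let Z : X.Etale := (EtShriek.compEtale (V a).hom).obj T₀
    let f : Z ⟶ T := MorphismProperty.Over.homMk (pullback.fst T.hom (V a).hom) (pullback.condition)
    refine ⟨Z, f, z, ?_, ?_, hz⟩
    · change F.obj.map f.op s = 0
      have hz0 := IsZero.iff_id_eq_zero _ |>.1 (h a)
      exact congrArg (fun m => (m.hom.app (op T₀)).hom (F.obj.map f.op s)) hz0
    · exact EtCoh.etaleMP.pullback_fst _ _ (V a).prop
  have hsep := ((isSheaf_iff_isSheaf_of_type _ _).1
    ((Presheaf.isSheaf_iff_isSheaf_forget _ _ (forget AddCommGrpCat.{u + 1})).1 F.property)) S hS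
  exact hsep.isSeparatedFor.ext fun Y f hf => by
    change F.obj.map f.op s = F.obj.map f.op 0
    rw [map_zero]; exact hf

end Groth.Agent.H88.RestrSheafify
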