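import Mathlib.CategoryTheory.Abelian.RightDerived
import Mathlib.CategoryTheory.Abelian.Injective.Resolution
import Mathlib.Algebra.Homology.Augment
import Mathlib.CategoryTheory.ObjectProperty.Basic
import Mathlib.CategoryTheory.Abelian.CommSq

set_option autoImplicit false
universe v v' u u'
open CategoryTheory CategoryTheory.Limits HomologicalComplex

namespace Groth.Agent.H88.AdaptedClass

variable {A : Type u} [Category.{v} A] [Abelian A] {𝒪 : ObjectProperty A}
  {K : CochainComplex A ℕ}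

/-- One step of the resolution by objects of `𝒪`. -/
structure St (𝒪 : ObjectProperty A) (K : CochainComplex A ℕ) (n : ℕ) where
  W : A
  Y : A
  g : W ⟶ Y
  e : K.X n ⟶ Y
  mem : 𝒪 Y
  compat : K.d (n - 1) n ≫ e ≫ cokernel.π g = 0

variable (h2 : ∀ X : A, ∃ (Y : A) (i : X ⟶ Y), 𝒪 Y ∧ Mono i) {n : ℕ} (s : St 𝒪 K n)

noncomputable abbrev St.left : cokernel (K.d (n - 1) n) ⟶ cokernel s.g :=
  cokernel.desc _ (s.e ≫ cokernel.π s.g) s.compat

noncomputable abbrev rightMap (K : CochainComplex A ℕ) (n : ℕ) : cokernel (K.d (n - 1) n) ⟶ K.X (n + 1) :=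
  cokernel.desc _ (K.d n (n + 1)) (K.d_comp_d _ _ _)

noncomputable abbrev St.P : A := pushout s.left (rightMap K n)

noncomputable def St.obj : A := (h2 s.P).choose

noncomputable def St.emb : s.P ⟶ s.obj h2 := (h2 s.P).choose_spec.choose

lemma St.obj_mem : 𝒪 (s.obj h2) := (h2 s.P).choose_spec.choose_spec.1

instance St.emb_mono : Mono (s.emb h2) := (h2 s.P).choose_spec.choose_spec.2

noncomputable def St.g' : s.Y ⟶ s.obj h2 :=
  cokernel.π s.g ≫ pushout.inl s.left (rightMap K n) ≫ s.emb h2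

noncomputable def St.e' : K.X (n + 1) ⟶ s.obj h2 :=
  pushout.inr s.left (rightMap K n) ≫ s.emb h2

lemma St.comm : s.e ≫ s.g' h2 = K.d n (n + 1) ≫ s.e' h2 := by
  have h := (cokernel.π (K.d (n - 1) n)) ≫= pushout.condition (f := s.left) (g := (rightMap K n))
  rw [cokernel.π_desc_assoc, cokernel.π_desc_assoc, Category.assoc] at h
  simp only [St.g', St.e', reassoc_of% h]

noncomputable def St.next : St 𝒪 K (n + 1) where
  W := s.Y
  Y := s.obj h2
  g := s.g' h2
  e := s.e' h2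
  mem := s.obj_mem h2
  compat := by
    change K.d n (n + 1) ≫ _ ≫ _ = 0
    rw [← reassoc_of% (s.comm h2), cokernel.condition, comp_zero]

lemma St.mono_inl (hK : K.Acyclic) : Mono (pushout.inl s.left (rightMap K n)) := by
  have h := (exactAt_iff' K (n - 1) n (n + 1) (by cases n <;> simp) (by simp)).1 (hK n)
  have : Mono (rightMap K n) := ShortComplex.Exact.mono_cokernelDesc h
  infer_instance

lemma St.zero : s.g ≫ s.g' h2 = 0 := by simp [St.g']

lemma St.exact (hK : K.Acyclic) : (ShortComplex.mk _ _ (s.zero h2)).Exact := by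
  have := s.mono_inl hK
  let α : ShortComplex.mk s.g (cokernel.π s.g) (cokernel.condition _) ⟶
      ShortComplex.mk s.g (s.g' h2) (s.zero h2) :=
    { τ₁ := 𝟙 _, τ₂ := 𝟙 _, τ₃ := pushout.inl s.left (rightMap K n) ≫ s.emb h2,
      comm₂₃ := by simp [St.g'] }
  have : Mono α.τ₃ := mono_comp _ _
  have : Epi α.τ₁ := inferInstanceAs (Epi (𝟙 _))
  have : IsIso α.τ₂ := inferInstanceAs (IsIso (𝟙 _))
  rw [← ShortComplex.exact_iff_of_epi_of_isIso_of_mono α]
  exact ShortComplex.exact_cokernel _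

variable (hK : K.Acyclic) (hK0 : 𝒪 (K.X 0))

noncomputable def seq : ∀ k, St 𝒪 K k
  | 0 =>
    { W := K.X 0
      Y := K.X 0
      g := 0
      e := 𝟙 _
      mem := hK0
      compat := by rw [K.shape 0 0 (by simp), zero_comp] }
  | k + 1 => (seq k).next h2

noncomputable def cx : CochainComplex A ℕ :=
  CochainComplex.of (fun k ↦ (seq h2 hK0 k).Y) (fun k ↦ (seq h2 hK0 k).g' h2)
    (fun k ↦ (seq h2 hK0 (k + 1)).zero h2)

lemma cx_d (k : ℕ) : (cx h2 hK0).d k (k + 1) = (seq h2 hK0 k).g' h2 := CochainComplex.of_d (fun k ↦ (seq h2 hK0 k).Y) (fun k ↦ (seq h2 hK0 k).g' h2) k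

lemma cx_mem (k : ℕ) : 𝒪 ((cx h2 hK0).X k) := (seq h2 hK0 k).mem

include hK in
lemma cx_acyclic : (cx h2 hK0).Acyclic := by
  rintro (_ | k)
  · rw [exactAt_iff' _ 0 0 1 (by simp) (by simp)]
    refine ShortComplex.exact_of_iso ?_ ((seq h2 hK0 0).exact h2 hK)
    refine ShortComplex.isoMk (Iso.refl _) (Iso.refl _) (Iso.refl _) ?_ ?_
    · change 𝟙 _ ≫ (cx h2 hK0).d 0 0 = (seq h2 hK0 0).g ≫ 𝟙 _
      rw [(cx h2 hK0).shape 0 0 (by simp)]
      simp [seq] <;> rfl
    · change 𝟙 _ ≫ (cx h2 hK0).d 0 (0 + 1) = (seq h2 hK0 0).g' h2 ≫ 𝟙 _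
      rw [cx_d]
      simp
  · rw [exactAt_iff' _ k (k + 1) (k + 2) (by simp) (by simp)]
    refine ShortComplex.exact_of_iso ?_ ((seq h2 hK0 (k + 1)).exact h2 hK)
    refine ShortComplex.isoMk (Iso.refl _) (Iso.refl _) (Iso.refl _) ?_ ?_
    · change 𝟙 _ ≫ (cx h2 hK0).d k (k + 1) = (seq h2 hK0 k).g' h2 ≫ 𝟙 _
      rw [cx_d]
      simp
    · change 𝟙 _ ≫ (cx h2 hK0).d (k + 1) (k + 1 + 1) = (seq h2 hK0 (k + 1)).g' h2 ≫ 𝟙 _
      rw [cx_d]
      simp

noncomputable def toCx : K ⟶ cx h2 hK0 :=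
  CochainComplex.ofHom (fun k ↦ (seq h2 hK0 k).e) (fun k ↦ by rw [cx_d]; exact (seq h2 hK0 k).comm h2)

lemma toCx_zero : (toCx h2 hK0).f 0 = 𝟙 (K.X 0) := rfl

/-- A map out of an acyclic complex into a complex with injective terms in positive degrees,
prescribed in degree zero. -/
noncomputable def lift {L M : CochainComplex A ℕ} (hL : L.Acyclic) [∀ i, Injective (M.X (i + 1))]
    (a : L.X 0 ⟶ M.X 0) : L ⟶ M :=
  have e0 : (ShortComplex.mk (0 : L.X 0 ⟶ L.X 0) (L.d 0 1) zero_comp).Exact := by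
    have := (exactAt_iff' L 0 0 1 (by simp) (by simp)).1 (hL 0)
    refine ShortComplex.exact_of_iso ?_ this
    exact ShortComplex.isoMk (Iso.refl _) (Iso.refl _) (Iso.refl _)
      (by change 𝟙 _ ≫ 0 = L.d 0 0 ≫ 𝟙 _; rw [L.shape 0 0 (by simp)]; simp)
      (by change 𝟙 _ ≫ L.d 0 1 = L.d 0 1 ≫ 𝟙 _; simp)
  haveI : ∀ i, Injective (M.X (i + 2)) := fun i ↦ (inferInstance : Injective (M.X ((i + 1) + 1)))
  haveI : Injective (M.X 1) := (inferInstance : Injective (M.X (0 + 1)))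
  CochainComplex.mkHom L M a (e0.descToInjective (a ≫ M.d 0 1) zero_comp)
    (e0.comp_descToInjective _ _).symm
    fun n ⟨g, g', w⟩ ↦
      ⟨((exactAt_iff' L n (n + 1) (n + 2) (by simp) (by simp)).1 (hL (n + 1))).descToInjective
          (g' ≫ M.d (n + 1) (n + 2)) (by
            change L.d n (n + 1) ≫ g' ≫ _ = 0
            rw [← reassoc_of% w, M.d_comp_d, comp_zero]),
        (((exactAt_iff' L n (n + 1) (n + 2) (by simp) (by simp)).1 (hL (n + 1))).comp_descToInjective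
          _ _).symm⟩

lemma lift_zero {L M : CochainComplex A ℕ} (hL : L.Acyclic) [∀ i, Injective (M.X (i + 1))]
    (a : L.X 0 ⟶ M.X 0) : (lift hL a).f 0 = a := rfl

end Groth.Agent.H88.AdaptedClass

namespace Groth.Agent.H88.AdaptedClass

variable {A : Type u} [Category.{v} A] [Abelian A] [EnoughInjectives A]
  {B : Type u'} [Category.{v'} B] [Abelian B]

theorem isZero_rightDerived (f : A ⥤ B) [f.Additive] (𝒪 : ObjectProperty A)
    (h1 : ∀ K : CochainComplex A ℕ, (∀ i, 𝒪 (K.X i)) → K.Acyclic →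
      ((f.mapHomologicalComplex (ComplexShape.up ℕ)).obj K).Acyclic)
    (h2 : ∀ X : A, ∃ (Y : A) (i : X ⟶ Y), 𝒪 Y ∧ Mono i)
    (X : A) (hX : 𝒪 X) (n : ℕ) (hn : 0 < n) :
    IsZero ((f.rightDerived n).obj X) := by
  obtain ⟨m, rfl⟩ := Nat.exists_eq_add_of_lt hn
  simp only [zero_add]
  let I := injectiveResolution X
  let Ia : CochainComplex A ℕ := CochainComplex.augment I.cocomplex (I.ι.f 0) I.ι_f_zero_comp_complex_d
  have hIa : Ia.Acyclic := by
    rintro (_ | _ | k)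
    · rw [exactAt_iff' _ 0 0 1 (by simp) (by simp)]
      refine ShortComplex.exact_of_iso ?_ ((ShortComplex.exact_iff_mono
        (ShortComplex.mk (0 : X ⟶ X) (I.ι.f 0) zero_comp) rfl).2 (inferInstanceAs (Mono (I.ι.f 0))))
      refine ShortComplex.isoMk (Iso.refl _) (Iso.refl _) (Iso.refl _) ?_ ?_
      · change 𝟙 _ ≫ Ia.d 0 0 = 0 ≫ 𝟙 X
        rw [Ia.shape 0 0 (by simp)]
        simp
        rfl
      · change 𝟙 _ ≫ Ia.d 0 1 = I.ι.f 0 ≫ 𝟙 _
        simp [Ia]
    · rw [exactAt_iff' _ 0 1 2 (by simp) (by simp)]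
      exact I.exact₀
    · rw [exactAt_iff' _ (k + 1) (k + 2) (k + 3) (by simp) (by simp)]
      exact I.exact_succ k
  have hI0 : 𝒪 (Ia.X 0) := hX
  let L := cx h2 hI0
  have hL : L.Acyclic := cx_acyclic h2 hIa hI0
  haveI : ∀ i, Injective (Ia.X (i + 1)) := fun i ↦ I.injective i
  let α : Ia ⟶ L := toCx h2 hI0
  let β : L ⟶ Ia := lift hL (𝟙 _)
  let L' : CochainComplex A ℕ := CochainComplex.truncate.obj L
  let α' : I.cocomplex ⟶ L' := CochainComplex.ofHom (fun i ↦ α.f (i + 1))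
    (fun i ↦ α.comm (i + 1) (i + 2))
  let β' : L' ⟶ I.cocomplex := CochainComplex.ofHom (fun i ↦ β.f (i + 1))
    (fun i ↦ β.comm (i + 1) (i + 2))
  have hι : I.ι ≫ (α' ≫ β' - 𝟙 I.cocomplex) = 0 := by
    apply HomologicalComplex.from_single_hom_ext
    simp only [comp_f, sub_f_apply, id_f, Preadditive.comp_sub, zero_f, sub_eq_zero,
      Category.comp_id]
    change Ia.d 0 1 ≫ α.f 1 ≫ β.f 1 = Ia.d 0 1
    have e := (α ≫ β).comm 0 1
    rw [comp_f, comp_f] at e
    rw [← e]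
    have h0 : α.f 0 ≫ β.f 0 = 𝟙 _ := Category.id_comp _
    rw [h0, Category.id_comp]
  let F := f.mapHomologicalComplex (ComplexShape.up ℕ)
  have hh := (f.mapHomotopy (InjectiveResolution.descHomotopyZero _ hι)).homologyMap_eq (m + 1)
  rw [CategoryTheory.Functor.map_zero, homologyMap_zero, Functor.map_sub, CategoryTheory.Functor.map_id, Functor.map_comp,
    homologyMap_sub, homologyMap_id, homologyMap_comp, sub_eq_zero] at hh
  have hz : IsZero ((F.obj L').homology (m + 1)) := by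
    rw [← exactAt_iff_isZero_homology, exactAt_iff' _ m (m + 1) (m + 2) (by simp) (by simp)]
    have := h1 L (cx_mem h2 hI0) hL (m + 2)
    rw [exactAt_iff' _ (m + 1) (m + 2) (m + 3) (by simp) (by simp)] at this
    exact this
  refine IsZero.of_iso ?_ (I.isoRightDerivedObj f (m + 1))
  rw [IsZero.iff_id_eq_zero]
  refine hh.symm.trans ?_
  rw [hz.eq_of_tgt (homologyMap (F.map α') (m + 1)) 0, zero_comp]
  rfl

end Groth.Agent.H88.AdaptedClass
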