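import Mathlib.AlgebraicGeometry.Morphisms.Etale
import Mathlib.RingTheory.Etale.StandardEtale
import Mathlib.RingTheory.Polynomial.Cyclotomic.Roots
import Mathlib.FieldTheory.IsAlgClosed.AlgebraicClosure
import Mathlib.AlgebraicGeometry.AffineScheme

/-!
Etale covers on which a primitive `n`-th root of unity exists.
-/

universe u

open Polynomial AlgebraicGeometry CategoryTheory

namespace Groth.Agent.H88.Cyclotomic

/-- `ζ` is an `n`-th root of unity with all `ζ ^ i - 1`, `0 < i < n`, invertible. -/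
def IsStrongPrimitiveRoot {R : Type*} [CommRing R] (ζ : R) (n : ℕ) : Prop :=
  ζ ^ n = 1 ∧ ∀ i, 0 < i → i < n → IsUnit (ζ ^ i - 1)

lemma IsStrongPrimitiveRoot.map {R S : Type*} [CommRing R] [CommRing S] {ζ : R} {n : ℕ}
    (h : IsStrongPrimitiveRoot ζ n) (φ : R →+* S) : IsStrongPrimitiveRoot (φ ζ) n :=
  ⟨by rw [← map_pow, h.1, map_one], fun i hi hin => by
    simpa [map_sub, map_pow, map_one] using (h.2 i hi hin).map φ⟩

variable {A : Type u} [CommRing A] {n : ℕ}

/-- The standard etale pair of the cyclotomic polynomial. -/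
noncomputable def pair (hn : 0 < n) (hu : IsUnit (n : A)) : StandardEtalePair A where
  f := cyclotomic n A
  monic_f := cyclotomic.monic n A
  g := 1
  cond := by
    obtain ⟨h, hh⟩ := cyclotomic.dvd_X_pow_sub_one n A
    have hd : C (n : A) * X ^ (n - 1) = derivative (cyclotomic n A) * h + cyclotomic n A * derivative h := by
      rw [← derivative_mul, ← hh, derivative_sub, derivative_X_pow, derivative_one, sub_zero]
    have hx : X ^ (n - 1) * X = (cyclotomic n A * h + 1 : A[X]) := by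
      rw [← pow_succ, Nat.sub_add_cancel hn, ← hh, sub_add_cancel]
    obtain ⟨c, hc⟩ := hu
    refine ⟨C (↑c⁻¹ : A) * X * h, C (↑c⁻¹ : A) * (X * derivative h - C (n : A) * h), 0, ?_⟩
    rw [pow_zero]
    have hcc : C (↑c⁻¹ : A) * C (n : A) = (1 : A[X]) := by
      rw [← map_mul, ← hc, Units.inv_mul, map_one]
    calc _ = C (↑c⁻¹ : A) * X * (derivative (cyclotomic n A) * h + cyclotomic n A * derivative h)
        - C (↑c⁻¹ : A) * C (n : A) * (cyclotomic n A * h) := by ring
      _ = C (↑c⁻¹ : A) * C (n : A) * (X ^ (n - 1) * X)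
          - C (↑c⁻¹ : A) * C (n : A) * (cyclotomic n A * h) := by rw [← hd]; ring
      _ = 1 := by rw [hcc, hx]; ring

lemma strongPrimitiveRoot_X (hn : 0 < n) (hu : IsUnit (n : A)) :
    IsStrongPrimitiveRoot (pair hn hu).X n := by
  have h0 : aeval (pair hn hu).X (cyclotomic n A) = 0 := (StandardEtalePair.hasMap_X (P := pair hn hu)).1
  set ζ := (pair hn hu).X
  refine ⟨?_, fun i hi hin => ?_⟩
  · obtain ⟨h, hh⟩ := cyclotomic.dvd_X_pow_sub_one n A
    have := congrArg (aeval ζ) hh
    rw [map_mul, h0, zero_mul, map_sub, map_pow, aeval_X, map_one, sub_eq_zero] at this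
    exact this
  · by_contra hnu
    obtain ⟨M, hM, hmem⟩ := exists_max_ideal_of_mem_nonunits (mem_nonunits_iff.2 hnu)
    haveI := hM
    let q := Ideal.Quotient.mk M
    letI := Ideal.Quotient.field M
    haveI : NeZero (n : (pair hn hu).Ring ⧸ M) :=
      ⟨(show IsUnit ((n : ℕ) : (pair hn hu).Ring ⧸ M) by
        simpa using hu.map (q.comp (algebraMap A (pair hn hu).Ring))).ne_zero⟩
    have hroot : IsPrimitiveRoot (q ζ) n := by
      rw [← isRoot_cyclotomic_iff, IsRoot.def, ← map_cyclotomic n (q.comp (algebraMap A _)), eval_map,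
        ← hom_eval₂]
      change q (aeval ζ (cyclotomic n A)) = 0
      rw [h0, map_zero]
    refine hroot.pow_ne_one_of_pos_of_lt (Nat.pos_iff_ne_zero.1 hi) hin ?_
    have := Ideal.Quotient.eq_zero_iff_mem.2 hmem
    rwa [map_sub, map_pow, map_one, sub_eq_zero] at this

lemma comap_surjective (hn : 0 < n) (hu : IsUnit (n : A)) :
    Function.Surjective (PrimeSpectrum.comap (algebraMap A (pair hn hu).Ring)) := by
  intro p
  let K := AlgebraicClosure p.asIdeal.ResidueField
  haveI : NeZero (n : K) := ⟨(show IsUnit (n : K) by simpa using hu.map (algebraMap A K)).ne_zero⟩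
  obtain ⟨x, hx⟩ : ∃ x : K, aeval x (cyclotomic n A) = 0 := by
    obtain ⟨x, hx⟩ := IsAlgClosed.exists_root (cyclotomic n K) (degree_cyclotomic_pos n K hn).ne'
    exact ⟨x, by rw [aeval_def, ← eval_map, map_cyclotomic]; exact hx⟩
  let φ := (pair hn hu).lift x ⟨hx, by simp [pair]⟩
  refine ⟨⟨RingHom.ker φ.toRingHom, RingHom.ker_isPrime _⟩, PrimeSpectrum.ext (Ideal.ext fun a => ?_)⟩
  change φ (algebraMap A _ a) = 0 ↔ a ∈ p.asIdeal
  rw [AlgHom.commutes, IsScalarTower.algebraMap_apply A p.asIdeal.ResidueField K,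
    map_eq_zero, Ideal.algebraMap_residueField_eq_zero]

/-- Around each point there is an etale scheme with a strong primitive root of unity. -/
theorem exists_etale_root {X : Scheme.{u}} (x : X) (hn : 0 < n) (hu : IsUnit (n : Γ(X, ⊤))) :
    ∃ (V : X.Etale) (v : V.left) (ζ : Γ(V.left, ⊤)), V.hom.base v = x ∧ IsStrongPrimitiveRoot ζ n := by
  obtain ⟨_, ⟨U, hU, rfl⟩, hxU, -⟩ := X.isBasis_affineOpens.exists_subset_of_mem_open
    (Set.mem_univ x) isOpen_univ
  have huU : IsUnit (n : Γ(X, U)) := by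
    simpa using hu.map (X.presheaf.map (homOfLE le_top : U ⟶ ⊤).op).hom
  set P := pair hn huU
  haveI : Etale (Spec.map (CommRingCat.ofHom (algebraMap Γ(X, U) P.Ring))) :=
    (HasRingHomProperty.Spec_iff (P := @Etale)).2 (RingHom.etale_algebraMap.2 inferInstance)
  let V : X.Etale := Scheme.Etale.mk (Spec.map (CommRingCat.ofHom (algebraMap Γ(X, U) P.Ring)) ≫ hU.fromSpec)
  have hx : x ∈ Set.range hU.fromSpec.base := by rw [hU.range_fromSpec]; exact hxU
  obtain ⟨p, hp⟩ := hx
  obtain ⟨v, hv⟩ := comap_surjective hn huU p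
  refine ⟨V, v, (Scheme.ΓSpecIso (CommRingCat.of P.Ring)).inv P.X, ?_, ?_⟩
  · rw [← hp, ← hv]
    rfl
  · exact (strongPrimitiveRoot_X hn huU).map (Scheme.ΓSpecIso (CommRingCat.of P.Ring)).inv.hom

end Groth.Agent.H88.Cyclotomic
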