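import Groth.Prelude.Def_DeltaF
import Mathlib.Algebra.Category.Grp.Abelian
import Mathlib.Algebra.Homology.ShortComplex.Ab
import Mathlib.Algebra.Category.Grp.FilteredColimits
import Mathlib.Algebra.Category.Grp.Ulift
import Mathlib.Algebra.Category.Grp.EpiMono
import Mathlib.CategoryTheory.ObjectProperty.Basic
import Mathlib.CategoryTheory.Limits.Preserves.Filtered

set_option autoImplicit false
universe w v u
open CategoryTheory CategoryTheory.Limits DeltaF

namespace Groth.Agent.H88.DeltaIso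

variable {C : Type u} [Category.{v} C] [Abelian C]
  {T T' : CohDeltaFunctor C AddCommGrpCat.{w} ℕ} (φ : T ⟶ T')

abbrev Inj (q : ℕ) (A : C) : Prop := Function.Injective ((φ.app q).app A)
abbrev Surj (q : ℕ) (A : C) : Prop := Function.Surjective ((φ.app q).app A)

lemma isIso_of {q : ℕ} {A : C} (h : Inj φ q A) (h' : Surj φ q A) : IsIso ((φ.app q).app A) :=
  (ConcreteCategory.isIso_iff_bijective _).2 ⟨h, h'⟩

lemma inj_of {q : ℕ} {A : C} (h : IsIso ((φ.app q).app A)) : Inj φ q A :=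
  ((ConcreteCategory.isIso_iff_bijective _).1 h).1

lemma surj_of {q : ℕ} {A : C} (h : IsIso ((φ.app q).app A)) : Surj φ q A :=
  ((ConcreteCategory.isIso_iff_bijective _).1 h).2

lemma nat {q : ℕ} {A B : C} (f : A ⟶ B) (x : (T.F q).obj A) :
    (φ.app q).app B ((T.F q).map f x) = (T'.F q).map f ((φ.app q).app A x) :=
  ConcreteCategory.congr_hom ((φ.app q).naturality f) x

lemma comm (S : ShortComplex C) (hS : S.ShortExact) (q : ℕ) (x : (T.F q).obj S.X₃) :
    (φ.app (q + 1)).app S.X₁ (T.δ S hS q (q + 1) rfl x) =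
      T'.δ S hS q (q + 1) rfl ((φ.app q).app S.X₃ x) :=
  ConcreteCategory.congr_hom (φ.comm S hS q (q + 1) rfl) x

lemma ex₂ (U : CohDeltaFunctor C AddCommGrpCat.{w} ℕ) (S : ShortComplex C) (hS : S.ShortExact) (q : ℕ)
    (x : (U.F q).obj S.X₂) (hx : (U.F q).map S.g x = 0) :
    ∃ y, (U.F q).map S.f y = x :=
  (ShortComplex.ab_exact_iff _).1 (U.exact₂ S hS q) x hx

lemma ex₃ (U : CohDeltaFunctor C AddCommGrpCat.{w} ℕ) (S : ShortComplex C) (hS : S.ShortExact) (q : ℕ)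
    (x : (U.F q).obj S.X₃) (hx : U.δ S hS q (q + 1) rfl x = 0) :
    ∃ y, (U.F q).map S.g y = x :=
  (ShortComplex.ab_exact_iff _).1 (U.exact₃ S hS q (q + 1) rfl) x hx

lemma ex₁ (U : CohDeltaFunctor C AddCommGrpCat.{w} ℕ) (S : ShortComplex C) (hS : S.ShortExact) (q : ℕ)
    (x : (U.F (q + 1)).obj S.X₁) (hx : (U.F (q + 1)).map S.f x = 0) :
    ∃ y, U.δ S hS q (q + 1) rfl y = x :=
  (ShortComplex.ab_exact_iff _).1 (U.exact₁ S hS q (q + 1) rfl) x hx

lemma gf (U : CohDeltaFunctor C AddCommGrpCat.{w} ℕ) (S : ShortComplex C) (q : ℕ) (x : (U.F q).obj S.X₁) :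
    (U.F q).map S.g ((U.F q).map S.f x) = 0 := by
  rw [← ConcreteCategory.comp_apply, ← Functor.map_comp, S.zero, Functor.map_zero]
  rfl

lemma δg (U : CohDeltaFunctor C AddCommGrpCat.{w} ℕ) (S : ShortComplex C) (hS : S.ShortExact) (q : ℕ)
    (x : (U.F q).obj S.X₂) : U.δ S hS q (q + 1) rfl ((U.F q).map S.g x) = 0 := by
  rw [← ConcreteCategory.comp_apply, U.comp_δ]
  rfl

lemma fδ (U : CohDeltaFunctor C AddCommGrpCat.{w} ℕ) (S : ShortComplex C) (hS : S.ShortExact) (q : ℕ)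
    (x : (U.F q).obj S.X₃) : (U.F (q + 1)).map S.f (U.δ S hS q (q + 1) rfl x) = 0 := by
  rw [← ConcreteCategory.comp_apply, U.δ_comp]
  rfl

/-- An element killed by `φ` and by the first map of the sequence is zero. -/
lemma eq_zero (S : ShortComplex C) (hS : S.ShortExact) (q : ℕ)
    (h2 : Surj φ q S.X₂) (h3 : Inj φ q S.X₃) (α : (T.F (q + 1)).obj S.X₁)
    (hα : (φ.app (q + 1)).app S.X₁ α = 0) (hf : (T.F (q + 1)).map S.f α = 0) : α = 0 := by
  obtain ⟨β, rfl⟩ := ex₁ T S hS q α hf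
  rw [comm] at hα
  obtain ⟨m', hm'⟩ := ex₃ T' S hS q _ hα
  obtain ⟨m, rfl⟩ := h2 m'
  rw [← nat] at hm'
  rw [← h3 hm', δg]

lemma surj_succ (S : ShortComplex C) (hS : S.ShortExact) (q : ℕ)
    (h2 : Surj φ (q + 1) S.X₂) (h3 : Inj φ (q + 1) S.X₃) (h3' : Surj φ q S.X₃) :
    Surj φ (q + 1) S.X₁ := by
  intro α'
  obtain ⟨m, hm⟩ := h2 ((T'.F (q + 1)).map S.f α')
  have hgm : (T.F (q + 1)).map S.g m = 0 := by
    refine h3 ?_
    rw [nat, hm, gf, map_zero]
  obtain ⟨α, rfl⟩ := ex₂ T S hS (q + 1) m hgm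
  rw [nat] at hm
  obtain ⟨β', hβ⟩ := ex₁ T' S hS q (α' - (φ.app (q + 1)).app S.X₁ α) (by rw [map_sub, hm, sub_self])
  obtain ⟨β, rfl⟩ := h3' β'
  refine ⟨α + T.δ S hS q (q + 1) rfl β, ?_⟩
  rw [map_add, comm, hβ]
  abel

lemma inj_zero (hT0 : T.ZeroMono) (S : ShortComplex C) (hS : S.ShortExact)
    (h2 : Inj φ 0 S.X₂) : Inj φ 0 S.X₁ := by
  refine (injective_iff_map_eq_zero _).2 fun α hα ↦ ?_
  refine (AddCommGrpCat.mono_iff_injective _).1 (hT0 S hS) (?_ : _ = (T.F 0).map S.f 0)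
  refine h2 ?_
  rw [nat, hα, map_zero, map_zero, map_zero]

lemma surj_zero (hT'0 : T'.ZeroMono) (S : ShortComplex C) (hS : S.ShortExact)
    (h2 : Surj φ 0 S.X₂) (h3 : Inj φ 0 S.X₃) : Surj φ 0 S.X₁ := by
  intro α'
  obtain ⟨m, hm⟩ := h2 ((T'.F 0).map S.f α')
  have hgm : (T.F 0).map S.g m = 0 := by
    refine h3 ?_
    rw [nat, hm, gf, map_zero]
  obtain ⟨α, rfl⟩ := ex₂ T S hS 0 m hgm
  rw [nat] at hm
  exact ⟨α, (AddCommGrpCat.mono_iff_injective _).1 (hT'0 S hS) hm⟩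

/-- The short exact sequence of a monomorphism. -/
noncomputable abbrev ses {A M : C} (u : A ⟶ M) : ShortComplex C :=
  ShortComplex.mk u (cokernel.π u) (cokernel.condition u)

lemma ses_shortExact {A M : C} (u : A ⟶ M) [Mono u] : (ses u).ShortExact :=
  { exact := ShortComplex.exact_of_g_is_cokernel _ (cokernelIsCokernel u) }

lemma inj_succ_of_effaceable (q : ℕ)
    (hT : ∀ (A : C) (α : (T.F (q + 1)).obj A), ∃ (M : C) (u : A ⟶ M), Mono u ∧ (T.F (q + 1)).map u α = 0)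
    (hq : ∀ A, Inj φ q A) (hq' : ∀ A, Surj φ q A) (A : C) : Inj φ (q + 1) A := by
  refine (injective_iff_map_eq_zero _).2 fun α hα ↦ ?_
  obtain ⟨M, u, hu, h⟩ := hT A α
  exact eq_zero φ (ses u) (ses_shortExact u) q (hq' _) (hq _) α hα h

section Colimits

lemma forget_preserves :
    PreservesFilteredColimitsOfSize.{v, v} (forget AddCommGrpCat.{max w v}) :=
  preservesFilteredColimitsOfSize_shrink.{v, max w v, v, max w v} (forget AddCommGrpCat.{max w v})

variable {J : Type v} [SmallCategory J] [IsFiltered J] {K : J ⥤ C} {c : Cocone K}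

lemma inj_colimit (hc : IsColimit c) (q : ℕ) [PreservesFilteredColimitsOfSize.{v, v} (T.F q)]
    [PreservesFilteredColimitsOfSize.{v, v} (T'.F q)]
    (h : ∀ j, Inj φ q (K.obj j)) : Inj φ q c.pt := by
  let U := AddCommGrpCat.uliftFunctor.{v, w}
  have hT := isColimitOfPreserves (T.F q ⋙ U) hc
  have hT' := isColimitOfPreserves (T'.F q ⋙ U) hc
  haveI := forget_preserves.{w, v}
  refine (injective_iff_map_eq_zero _).2 fun α hα ↦ ?_
  obtain ⟨j, ⟨x⟩, hx⟩ := Concrete.isColimit_exists_rep _ hT (ULift.up α)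
  have hxα : (T.F q).map (c.ι.app j) x = α := congrArg ULift.down hx
  have h0 : (T'.F q).map (c.ι.app j) ((φ.app q).app _ x) = 0 := by
    rw [← nat, hxα]; exact hα
  obtain ⟨k, f, g, hfg⟩ := Concrete.isColimit_exists_of_rep_eq _ hT'
    (x := ULift.up ((φ.app q).app _ x)) (y := (0 : ((T'.F q ⋙ U).obj (K.obj j))))
    (ULift.ext _ _ (h0.trans (map_zero ((T'.F q).map (c.ι.app j)).hom).symm))
  have h1 : (T'.F q).map (K.map f) ((φ.app q).app _ x) = 0 := by
    have := congrArg ULift.down hfg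
    exact this.trans (map_zero ((T'.F q).map (K.map g)).hom)
  rw [← nat] at h1
  have h2 : (T.F q).map (K.map f) x = 0 := h k (h1.trans (map_zero _).symm)
  rw [← hxα, ← c.w f, Functor.map_comp, ConcreteCategory.comp_apply, h2, map_zero]

lemma surj_colimit (hc : IsColimit c) (q : ℕ) [PreservesFilteredColimitsOfSize.{v, v} (T'.F q)]
    (h : ∀ j, Surj φ q (K.obj j)) : Surj φ q c.pt := by
  let U := AddCommGrpCat.uliftFunctor.{v, w}
  have hT' := isColimitOfPreserves (T'.F q ⋙ U) hc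
  haveI := forget_preserves.{w, v}
  intro α'
  obtain ⟨j, ⟨x⟩, hx⟩ := Concrete.isColimit_exists_rep _ hT' (ULift.up α')
  obtain ⟨y, rfl⟩ := h j x
  refine ⟨(T.F q).map (c.ι.app j) y, ?_⟩
  rw [nat]
  exact congrArg ULift.down hx

end Colimits

end Groth.Agent.H88.DeltaIso
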