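import Groth.Agent.H88.DepthSec
import Groth.Agent.H61.FieldCoh.Free
import Mathlib.CategoryTheory.Abelian.Injective.Ext

/-!
Restriction to an open subscheme on cohomology and sections supported off it.
-/

universe u

open CategoryTheory CategoryTheory.Limits CategoryTheory.Abelian AlgebraicGeometry Opposite

namespace Groth.Agent.H88.DepthExt

open Groth.Agent.H61 Groth.Agent.Lib.EtJ DepthSec

variable {X U : Scheme.{u}} (j : U ⟶ X) [IsOpenImmersion j]

/-- `ℤ` modulo `j_! ℤ`. -/
noncomputable abbrev Q : EtCoh.Ab X := cokernel (FieldCoh.aug j)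

omit [IsOpenImmersion j] in
lemma range_obj [Etale j] : Set.range (FieldCoh.obj j).hom.base ⊆ Set.range j.base := by
  rintro _ ⟨y, rfl⟩
  exact ⟨(EtCoh.top U).hom.base y, rfl⟩

lemma sup_top_iff {A : EtCoh.Ab X} (φ : EtCoh.const X ℤ ⟶ A) :
    Sup j (PullSec.elem X A φ : S A (EtCoh.top X)) ↔ FieldCoh.aug j ≫ φ = 0 := by
  rw [← (FieldCoh.ev j A).injective.eq_iff, FieldCoh.ev_aug]
  have h0 : FieldCoh.ev j A 0 = 0 := by
    rw [FieldCoh.ev_apply]
    change FieldCoh.restrTop j A (PullSec.elem U _ (FieldCoh.hom j A 0)) = 0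
    have e : FieldCoh.hom j A 0 = 0 := by
      have := FieldCoh.hom_comp j (0 : FieldCoh.free j ⟶ A) (0 : A ⟶ A)
      simpa using this
    rw [e, map_zero, map_zero]
  rw [h0]
  refine ⟨fun h => h _ _ (range_obj j), fun h T w hT => ?_⟩
  let l : T.left ⟶ U := IsOpenImmersion.lift j T.hom hT
  have hl : l ≫ j = T.hom := IsOpenImmersion.lift_fac j T.hom hT
  let v : T ⟶ FieldCoh.obj j := MorphismProperty.Over.homMk l
    ((l ≫= Category.id_comp j).trans hl)
  obtain rfl : w = v ≫ (EtCore.topIsTerminal X).from (FieldCoh.obj j) :=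
    (EtCore.topIsTerminal X).hom_ext _ _
  exact (Restrict.map_comp_apply A.obj _ _ _).trans ((congrArg (A.obj.map v.op) h).trans (map_zero _))

instance mono_top (T : X.Etale) [Mono T.hom] : Mono ((EtCore.topIsTerminal X).from T) := by
  refine ⟨fun {W} a b _ => MorphismProperty.Over.Hom.ext ((cancel_mono T.hom).1 ?_)⟩
  exact (MorphismProperty.Over.w a).trans (MorphismProperty.Over.w b).symm

instance mono_aug : Mono (FieldCoh.aug j) := by
  refine Preadditive.mono_of_kernel_zero ?_
  let ι₀ := Injective.ι (kernel (FieldCoh.aug j))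
  let ψ := Injective.factorThru ι₀ (kernel.ι (FieldCoh.aug j))
  haveI : Mono (FieldCoh.obj j).hom := inferInstanceAs (Mono (𝟙 U ≫ j))
  obtain ⟨s, hs⟩ := FreeSheaf.map_surjective_of_injective
    ((EtCore.topIsTerminal X).from (FieldCoh.obj j)) (Injective.under (kernel (FieldCoh.aug j)))
    (FieldCoh.ev j _ ψ)
  obtain ⟨φ, rfl⟩ := (PullSec.elem X _).surjective s
  have hψ : ψ = FieldCoh.aug j ≫ φ := (FieldCoh.ev j _).injective (hs.symm.trans (FieldCoh.ev_aug j φ).symm)
  have h2 : ι₀ = 0 := (Injective.comp_factorThru ι₀ (kernel.ι (FieldCoh.aug j))).symm.trans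
    ((kernel.ι _ ≫= hψ).trans (by rw [kernel.condition_assoc, zero_comp]))
  refine IsZero.eq_zero_of_src ?_ _
  exact IsZero.of_mono_eq_zero ι₀ h2

/-- The fundamental sequence. -/
noncomputable abbrev seq : ShortComplex (EtCoh.Ab X) :=
  ShortComplex.mk (FieldCoh.aug j) (cokernel.π _) (cokernel.condition _)

lemma seq_shortExact : (seq j).ShortExact where
  exact := ShortComplex.exact_of_g_is_cokernel _ (cokernelIsCokernel _)

variable {G : EtCoh.Ab X}

lemma elem_d (I : InjectiveResolution G) (p q : ℕ) (φ : EtCoh.const X ℤ ⟶ I.cocomplex.X p) :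
    (I.cocomplex.d p q).hom.app (op (EtCoh.top X)) (PullSec.elem X _ φ) =
      PullSec.elem X _ (φ ≫ I.cocomplex.d p q) :=
  (PullSec.elem_comp X φ _).symm

/-- `Ext^p(ℤ/j_!ℤ, G)` and exactness of the global sections supported off `U`. -/
theorem subsingleton_ext_iff (I : InjectiveResolution G) (p : ℕ) :
    Subsingleton (Ext.{u + 1} (Q j) G p) ↔ Ex j I.cocomplex (EtCoh.top X) p := by
  constructor
  · intro h a ha hda
    obtain ⟨φ, rfl⟩ := (PullSec.elem X _).surjective a
    let f : Q j ⟶ I.cocomplex.X p := cokernel.desc _ φ ((sup_top_iff j φ).1 ha)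
    have hf : f ≫ I.cocomplex.d p (p + 1) = 0 := by
      refine (cancel_epi (cokernel.π (FieldCoh.aug j))).1 ?_
      rw [cokernel.π_desc_assoc, comp_zero]
      exact (PullSec.elem X _).injective ((elem_d I p (p + 1) φ).symm.trans (hda.trans (map_zero _).symm))
    rcases p with _ | p
    · obtain ⟨l, hl⟩ := KernelFork.IsLimit.lift' I.isLimitKernelFork f hf
      haveI h' : Subsingleton (Ext.{u + 1} (Q j) I.kernelFork.pt 0) := h
      have hl0 : l = 0 := (Ext.mk₀_bijective _ _).1 (Subsingleton.elim _ _)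
      refine ⟨0, fun T w _ => map_zero _, ?_⟩
      have hf0 : f = 0 := by rw [← hl, hl0, zero_comp]
      have hφ : φ = 0 := by
        rw [← cokernel.π_desc (FieldCoh.aug j) φ ((sup_top_iff j φ).1 ha)]
        change _ ≫ f = 0
        rw [hf0, comp_zero]
      rw [hφ, map_zero, map_zero]
    · obtain ⟨g, hg⟩ := (I.extMk_eq_zero_iff f (p + 1 + 1) rfl hf p rfl).1 (Subsingleton.elim _ _)
      refine ⟨PullSec.elem X _ (cokernel.π _ ≫ g), (sup_top_iff j _).2 (by
        rw [cokernel.condition_assoc, zero_comp]), ?_⟩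
      refine (elem_d I p (p + 1) _).trans ?_
      rw [Category.assoc, hg, cokernel.π_desc]
  · intro h
    refine subsingleton_of_forall_eq 0 fun α => ?_
    have key : ∀ f : Q j ⟶ I.cocomplex.X p, f ≫ I.cocomplex.d p (p + 1) = 0 →
        ∃ g : Q j ⟶ I.cocomplex.X (p - 1), g ≫ I.cocomplex.d (p - 1) p = f := by
      intro f hf
      obtain ⟨b, hb, hdb⟩ := h (PullSec.elem X _ (cokernel.π _ ≫ f))
        ((sup_top_iff j _).2 (by rw [cokernel.condition_assoc, zero_comp]))
        ((elem_d I p (p + 1) _).trans (by rw [Category.assoc, hf, comp_zero, map_zero]))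
      obtain ⟨φ, rfl⟩ := (PullSec.elem X _).surjective b
      refine ⟨cokernel.desc _ φ ((sup_top_iff j φ).1 hb), ?_⟩
      refine (cancel_epi (cokernel.π (FieldCoh.aug j))).1 ((PullSec.elem X _).injective ?_)
      rw [cokernel.π_desc_assoc]
      exact (elem_d I (p - 1) p φ).symm.trans hdb
    rcases p with _ | p
    · obtain ⟨l, rfl⟩ := (Ext.mk₀_bijective _ _).2 α
      obtain ⟨g, hg⟩ := key (l ≫ I.ι.f 0) (by
        rw [Category.assoc]
        exact (l ≫= I.ι_f_zero_comp_complex_d).trans comp_zero)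
      have h0 : g ≫ I.cocomplex.d 0 0 = 0 := by rw [I.cocomplex.shape _ _ (by simp), comp_zero]
      have hl : l = 0 := (cancel_mono (I.ι.f 0)).1 ((hg.symm.trans h0).trans zero_comp.symm)
      rw [hl, Ext.mk₀_zero]
    · obtain ⟨f, hf, rfl⟩ := I.extMk_surjective α (p + 1 + 1) rfl
      exact (I.extMk_eq_zero_iff f _ rfl hf p rfl).2 (key f hf)

end Groth.Agent.H88.DepthExt

namespace Groth.Agent.H88.DepthExt

open CategoryTheory CategoryTheory.Limits CategoryTheory.Abelian

universe w v u'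

/-- A long exact sequence turned into bijectivity of precomposition. -/
theorem forall_subsingleton_iff_precomp {C : Type u'} [Category.{v} C] [Abelian C] [HasExt.{w} C]
    {S : ShortComplex C} (hS : S.ShortExact) (G : C) (n : ℕ) :
    (∀ p < n, Subsingleton (Ext S.X₃ G p)) ↔
      (∀ p : ℕ, p + 1 < n → Function.Bijective fun e : Ext S.X₂ G p => (Ext.mk₀ S.f).comp e (zero_add p)) ∧
      (∀ p : ℕ, p + 1 = n → Function.Injective fun e : Ext S.X₂ G p => (Ext.mk₀ S.f).comp e (zero_add p)) := by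
  constructor
  · intro h
    have hi : ∀ p < n, Function.Injective fun e : Ext S.X₂ G p => (Ext.mk₀ S.f).comp e (zero_add p) := by
      intro p hp a b hab
      rw [← sub_eq_zero]
      obtain ⟨x, hx⟩ := Ext.contravariant_sequence_exact₂ hS G (a - b)
        (by rw [sub_eq_add_neg, Ext.comp_add, Ext.comp_neg, ← sub_eq_add_neg]; exact sub_eq_zero.2 hab)
      haveI := h p hp
      rw [← hx, Subsingleton.elim x 0, Ext.comp_zero]
    refine ⟨fun p hp => ⟨hi p (by omega), fun y => ?_⟩, fun p hp => hi p (by omega)⟩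
    haveI := h (p + 1) hp
    exact Ext.contravariant_sequence_exact₁ hS G y (add_comm 1 p) (Subsingleton.elim _ _)
  · rintro ⟨hb, hi⟩ p hp
    refine subsingleton_of_forall_eq 0 fun x => ?_
    have hi' : Function.Injective fun e : Ext S.X₂ G p => (Ext.mk₀ S.f).comp e (zero_add p) := by
      rcases lt_or_eq_of_le (Nat.succ_le_of_lt hp) with h | h
      · exact (hb p h).1
      · exact hi p h
    have hx : (Ext.mk₀ S.g).comp x (zero_add p) = 0 := hi' (by
      dsimp only
      rw [Ext.mk₀_comp_mk₀_assoc, S.zero, Ext.mk₀_zero, Ext.zero_comp, Ext.comp_zero])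
    rcases p with _ | p
    · obtain ⟨f, rfl⟩ := (Ext.mk₀_bijective _ _).2 x
      rw [Ext.mk₀_comp_mk₀] at hx
      haveI := hS.epi_g
      have hf : f = 0 := (cancel_epi S.g).1
        (((Ext.mk₀_bijective _ _).1 (hx.trans (Ext.mk₀_zero _ _).symm)).trans comp_zero.symm)
      rw [hf, Ext.mk₀_zero]
    · obtain ⟨y, rfl⟩ := Ext.contravariant_sequence_exact₃ hS G x hx (add_comm 1 p)
      obtain ⟨e, rfl⟩ := (hb p hp).2 y
      dsimp only
      rw [← Ext.comp_assoc hS.extClass (Ext.mk₀ S.f) e (add_zero 1) (zero_add p) (by omega),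
        hS.extClass_comp, Ext.zero_comp]

end Groth.Agent.H88.DepthExt

namespace Groth.Agent.H88.DepthExt

open Groth.Agent.H61 Groth.Agent.Lib.EtJ DepthSec

variable {X U : Scheme.{u}} (j : U ⟶ X) [IsOpenImmersion j] {G : EtCoh.Ab X}

/-- Precomposition with `j_! ℤ ⟶ ℤ`. -/
noncomputable abbrev P (G : EtCoh.Ab X) (p : ℕ) (e : EtCoh.H X G p) : Ext.{u + 1} (FieldCoh.free j) G p :=
  (Ext.mk₀ (FieldCoh.aug j)).comp e (zero_add p)

lemma Hpull_eq [PreservesFiniteLimits (EtCoh.pull j)] (p : ℕ) :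
    ⇑(EtCore.Hpull j G p) = ⇑(FieldCoh.Φ j G p) ∘ P j G p := by
  funext e
  refine Eq.trans ?_ (MVAlg.extTr_mk₀_comp (EtCoh.pull j) (FieldCoh.unit j) (FieldCoh.aug j) e).symm
  rw [← FieldCoh.hom_eq, FieldCoh.hom_aug]
  rfl

/-- The long exact sequence turned into bijectivity of restriction. -/
theorem forall_subsingleton_iff [PreservesFiniteLimits (EtCoh.pull j)] (n : ℕ) :
    (∀ p < n, Subsingleton (Ext.{u + 1} (Q j) G p)) ↔
      (∀ p : ℕ, p + 1 < n → Function.Bijective (EtCore.Hpull j G p)) ∧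
      (∀ p : ℕ, p + 1 = n → Function.Injective (EtCore.Hpull j G p)) := by
  have hb : ∀ p, Function.Bijective (EtCore.Hpull j G p) ↔ Function.Bijective (P j G p) := fun p => by
    rw [Hpull_eq j p]
    exact (FieldCoh.Φ j G p).toEquiv.comp_bijective _
  have hi : ∀ p, Function.Injective (EtCore.Hpull j G p) ↔ Function.Injective (P j G p) := fun p => by
    rw [Hpull_eq j p]
    exact (FieldCoh.Φ j G p).toEquiv.comp_injective _
  simp only [hb, hi]
  exact forall_subsingleton_iff_precomp (seq_shortExact j) G n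

end Groth.Agent.H88.DepthExt
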