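import Groth.Agent.H88.DepthTwo
import Groth.Agent.Lib.FEt.FullyFaithful
import Groth.Agent.Lib.FEt.Coproduct

/-!
Depth `≥ 1`, `≥ 2` against restriction of finite etale covers.
-/

set_option linter.style.haveILetI false

universe u

open CategoryTheory CategoryTheory.Limits AlgebraicGeometry Opposite

namespace Groth.Agent.H88.DepthFEt

open DepthTwo Groth.Agent.Lib.FEt

variable {X U : Scheme.{u}} (j : U ⟶ X) [IsOpenImmersion j]

lemma meetsClopens_snd (hM : Meets j) {X' : Scheme.{u}} (g : X' ⟶ X) [Etale g] :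
    Conservative.MeetsClopens X' (Set.range (pullback.snd j g).base) := by
  intro s hs hne
  rw [Scheme.Pullback.range_snd]
  rw [Set.nonempty_iff_ne_empty]
  exact fun h => hne.ne_empty (hM (Scheme.Etale.mk g) s hs h)

theorem faithful_of_meets (hM : Meets j) {X' : Scheme.{u}} (g : X' ⟶ X) [Etale g] :
    (FEt.restrict (pullback.snd j g)).Faithful :=
  FullyFaithful.faithful _ (meetsClopens_snd j hM g)

theorem full_of_extends (hM : Meets j) (hE : Extends j) {X' : Scheme.{u}} (g : X' ⟶ X) [Etale g] :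
    (FEt.restrict (pullback.snd j g)).Full := by
  refine FullyFaithful.full _ (meetsClopens_snd j hM g) fun W C hC => ?_
  haveI : Etale W.hom := W.prop.2
  let p := pullback.fst W.hom (pullback.snd j g)
  haveI : IsOpenImmersion p := inferInstance
  let A : Set W.left := (W.hom ≫ g).base ⁻¹' Set.range j.base
  have hA : Set.range p.base = A := by
    rw [Scheme.Pullback.range_fst, Scheme.Pullback.range_snd]
    rfl
  obtain ⟨D, hD, hDC⟩ := hE (Scheme.Etale.mk (W.hom ≫ g)) (p.base '' C)
    (fun x hx => hA.subset (Set.image_subset_range _ _ hx))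
    (p.isOpenEmbedding.isOpenMap _ hC.isOpen) (by
      change IsOpen (A \ p.base '' C)
      rw [← hA, ← Set.image_univ, ← Set.image_sdiff p.isOpenEmbedding.injective, ← Set.compl_eq_univ_sdiff]
      exact p.isOpenEmbedding.isOpenMap _ hC.compl.isOpen)
  refine ⟨D, hD, Set.ext fun x => ?_⟩
  have hx : p.base x ∈ A := hA.subset ⟨x, rfl⟩
  constructor
  · intro h
    have h' : p.base x ∈ p.base '' C := hDC.subset ⟨h, hx⟩
    exact p.isOpenEmbedding.injective.mem_set_image.1 h'
  · intro h
    exact (hDC.superset ⟨x, h, rfl⟩).1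

/-- Two copies of the trivial cover. -/
noncomputable abbrev two (V : Scheme.{u}) : FEt.Cat V :=
  Coproduct.sum (MorphismProperty.Over.mk ⊤ (𝟙 V) ⟨inferInstanceAs (IsFinite (𝟙 V)), inferInstanceAs (Etale (𝟙 V))⟩)
    (MorphismProperty.Over.mk ⊤ (𝟙 V) ⟨inferInstanceAs (IsFinite (𝟙 V)), inferInstanceAs (Etale (𝟙 V))⟩)

theorem meets_of_faithful
    (h : ∀ (X' : Scheme.{u}) (g : X' ⟶ X) [Etale g], (FEt.restrict (pullback.snd j g)).Faithful) :
    Meets j := by
  intro V D hD hDA
  haveI : Etale V.hom := V.prop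
  haveI := h V.left V.hom
  let O : V.left.Opens := ⟨D, hD.isOpen⟩
  haveI : IsClosedImmersion O.ι := IsClosedImmersion.of_isPreimmersion O.ι (by
    rw [Scheme.Opens.range_ι]; exact hD.1)
  let Y : FEt.Cat V.left := MorphismProperty.Over.mk ⊤ O.ι
    ⟨inferInstanceAs (IsFinite O.ι), inferInstanceAs (Etale O.ι)⟩
  let a : Y ⟶ two V.left := MorphismProperty.Over.homMk (O.ι ≫ coprod.inl)
    ((Category.assoc _ _ _).trans ((O.ι ≫= coprod.inl_desc _ _).trans (Category.comp_id _)))
  let b : Y ⟶ two V.left := MorphismProperty.Over.homMk (O.ι ≫ coprod.inr)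
    ((Category.assoc _ _ _).trans ((O.ι ≫= coprod.inr_desc _ _).trans (Category.comp_id _)))
  have hemp : IsEmpty ((FEt.restrict (pullback.snd j V.hom)).obj Y).left := by
    refine ⟨fun y => ?_⟩
    let f := pullback.fst Y.hom (pullback.snd j V.hom)
    let q := pullback.snd Y.hom (pullback.snd j V.hom)
    have e : O.ι.base (f.base y) = (pullback.snd j V.hom).base (q.base y) :=
      congrArg (fun k => k.base y) (pullback.condition (f := Y.hom) (g := pullback.snd j V.hom))
    refine Set.eq_empty_iff_forall_notMem.1 hDA (O.ι.base (f.base y)) ⟨(f.base y).2, ?_⟩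
    rw [← Scheme.Pullback.range_snd, e]
    exact ⟨_, rfl⟩
  have hab : a = b := (FEt.restrict (pullback.snd j V.hom)).map_injective
    (MorphismProperty.Over.Hom.ext ((isInitialOfIsEmpty (X := ((FEt.restrict (pullback.snd j V.hom)).obj Y).left)).hom_ext _ _))
  refine Set.eq_empty_iff_forall_notMem.2 fun d hd => ?_
  have e : (coprod.inl : V.left ⟶ V.left ⨿ V.left).base d = (coprod.inr : V.left ⟶ V.left ⨿ V.left).base d :=
    congrArg (fun k => k.left.base ⟨d, hd⟩) hab
  exact Set.disjoint_left.1 (isCompl_range_inl_inr V.left V.left).disjoint ⟨d, rfl⟩ ⟨d, e.symm⟩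

theorem extends_of_full
    (h : ∀ (X' : Scheme.{u}) (g : X' ⟶ X) [Etale g], (FEt.restrict (pullback.snd j g)).Full) :
    Extends j := by
  intro V C hC hCo hCc
  haveI : Etale V.hom := V.prop
  haveI := h V.left V.hom
  let s := pullback.snd j V.hom
  let T : FEt.Cat V.left :=
    MorphismProperty.Over.mk ⊤ (𝟙 V.left) ⟨inferInstanceAs (IsFinite (𝟙 V.left)), inferInstanceAs (Etale (𝟙 V.left))⟩
  let P := ((FEt.restrict s).obj T).left
  let f : P ⟶ V.left := pullback.fst (𝟙 V.left) s
  have hf : ∀ y, f.base y ∈ V.hom.base ⁻¹' Set.range j.base := fun y => by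
    rw [← Scheme.Pullback.range_snd]
    exact ⟨(pullback.snd (𝟙 V.left) s).base y,
      congrArg (fun k => k.base y) ((pullback.condition (f := 𝟙 V.left) (g := s)).symm.trans (Category.comp_id _))⟩
  let E₁ : P.Opens := ⟨f.base ⁻¹' C, hCo.preimage f.continuous⟩
  let E₂ : P.Opens := ⟨f.base ⁻¹' (V.hom.base ⁻¹' Set.range j.base \ C), hCc.preimage f.continuous⟩
  have hcompl : IsCompl (Scheme.Hom.opensRange E₁.ι) (Scheme.Hom.opensRange E₂.ι) := by
    rw [Scheme.Opens.opensRange_ι, Scheme.Opens.opensRange_ι]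
    refine ⟨disjoint_iff.2 (TopologicalSpace.Opens.ext (Set.eq_empty_iff_forall_notMem.2 fun y hy => hy.2.2 hy.1)),
      codisjoint_iff.2 (TopologicalSpace.Opens.ext (Set.eq_univ_of_forall fun y => ?_))⟩
    by_cases hy : f.base y ∈ C
    · exact Or.inl hy
    · exact Or.inr ⟨hf y, hy⟩
  obtain ⟨hP⟩ := nonempty_isColimit_binaryCofanMk_of_isCompl E₁.ι E₂.ι hcompl
  obtain ⟨m, hm1, hm2⟩ := BinaryCofan.IsColimit.desc' hP
    ((E₁.ι ≫ f) ≫ (coprod.inl : V.left ⟶ V.left ⨿ V.left)) ((E₂.ι ≫ f) ≫ coprod.inr)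
  have hm : m ≫ (two V.left).hom = pullback.snd (𝟙 V.left) s ≫ s := by
    refine BinaryCofan.IsColimit.hom_ext hP ?_ ?_
    · refine (Category.assoc _ _ _).symm.trans ((congrArg (· ≫ (two V.left).hom) hm1).trans ?_)
      refine (Category.assoc _ _ _).trans (((E₁.ι ≫ f) ≫= coprod.inl_desc _ _).trans ?_)
      exact (Category.assoc _ _ _).trans (E₁.ι ≫= pullback.condition)
    · refine (Category.assoc _ _ _).symm.trans ((congrArg (· ≫ (two V.left).hom) hm2).trans ?_)
      refine (Category.assoc _ _ _).trans (((E₂.ι ≫ f) ≫= coprod.inr_desc _ _).trans ?_)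
      exact (Category.assoc _ _ _).trans (E₂.ι ≫= pullback.condition)
  let β : (FEt.restrict s).obj T ⟶ (FEt.restrict s).obj (two V.left) :=
    MorphismProperty.Over.homMk (pullback.lift m (pullback.snd (𝟙 V.left) s) hm) (pullback.lift_snd _ _ _)
  obtain ⟨a, ha⟩ := (FEt.restrict s).map_surjective β
  let al : V.left ⟶ V.left ⨿ V.left := a.left
  have key : f ≫ al = m := by
    rw [← pullback.lift_fst m (pullback.snd (𝟙 V.left) s) hm]
    exact (Basic.restrict_map_fst s a).symm.trans
      (congrArg (fun k => k.left ≫ pullback.fst (two V.left).hom s) ha)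
  let L := Set.range (coprod.inl : V.left ⟶ V.left ⨿ V.left).base
  let R := Set.range (coprod.inr : V.left ⟶ V.left ⨿ V.left).base
  have hLR : IsCompl L R := isCompl_range_inl_inr V.left V.left
  have hL : IsClopen L := by
    refine ⟨⟨?_⟩, (coprod.inl : V.left ⟶ V.left ⨿ V.left).isOpenEmbedding.isOpen_range⟩
    rw [hLR.compl_eq]
    exact (coprod.inr : V.left ⟶ V.left ⨿ V.left).isOpenEmbedding.isOpen_range
  refine ⟨al.base ⁻¹' L, hL.preimage al.continuous, Set.ext fun x => ?_⟩
  constructor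
  · rintro ⟨hx, hxA⟩
    rw [← Scheme.Pullback.range_snd] at hxA
    obtain ⟨u, hu⟩ := hxA
    obtain ⟨y, hy, -⟩ := Scheme.Pullback.exists_preimage_pullback (f := 𝟙 V.left) (g := s) x u hu.symm
    by_contra hxC
    have hyC : y ∈ E₂ := ⟨hf y, by rw [show f.base y = x from hy]; exact hxC⟩
    have e : al.base x ∈ R := by
      refine ⟨f.base y, ?_⟩
      have := congrArg (fun k => k.base ⟨y, hyC⟩) hm2
      rw [← show f.base y = x from hy]
      exact this.symm.trans (congrArg (fun k => k.base y) key).symm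
    exact Set.disjoint_left.1 hLR.disjoint hx e
  · intro hxC
    refine ⟨?_, hC hxC⟩
    have hxA := hC hxC
    rw [← Scheme.Pullback.range_snd] at hxA
    obtain ⟨u, hu⟩ := hxA
    obtain ⟨y, hy, -⟩ := Scheme.Pullback.exists_preimage_pullback (f := 𝟙 V.left) (g := s) x u hu.symm
    have hyC : y ∈ E₁ := by
      change f.base y ∈ C
      rw [show f.base y = x from hy]
      exact hxC
    refine ⟨f.base y, ?_⟩
    have := congrArg (fun k => k.base ⟨y, hyC⟩) hm1
    rw [← show f.base y = x from hy]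
    exact this.symm.trans (congrArg (fun k => k.base y) key).symm

theorem depth_iff : ((∀ ℓ : ℕ, ℓ.Prime → EtDepth.DepthGE j (EtCoh.const X (ZMod ℓ)) 1) ↔
      ∀ (X' : Scheme.{u}) (g : X' ⟶ X) [Etale g], (FEt.restrict (pullback.snd j g)).Faithful) ∧
    ((∀ ℓ : ℕ, ℓ.Prime → EtDepth.DepthGE j (EtCoh.const X (ZMod ℓ)) 2) ↔
      ∀ (X' : Scheme.{u}) (g : X' ⟶ X) [Etale g],
        (FEt.restrict (pullback.snd j g)).Full ∧ (FEt.restrict (pullback.snd j g)).Faithful) := by
  refine ⟨⟨fun h X' g _ => faithful_of_meets j (meets_of_depth j Nat.one_lt_two (h 2 Nat.prime_two)) g,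
    fun h ℓ _ => depth_one_of_meets j (meets_of_faithful j h) ℓ⟩, ⟨fun h X' g _ => ?_, fun h ℓ hℓ => ?_⟩⟩
  · have h2 := h 2 Nat.prime_two
    have hM := meets_of_depth j Nat.one_lt_two fun p hp => h2 p (by omega)
    exact ⟨full_of_extends j hM (extends_of_depth j Nat.one_lt_two h2) g, faithful_of_meets j hM g⟩
  · haveI : NeZero ℓ := ⟨hℓ.ne_zero⟩
    exact depth_two_of_extends j (meets_of_faithful j fun X' g _ => (h X' g).2)
      (extends_of_full j fun X' g _ => (h X' g).1) ℓ

end Groth.Agent.H88.DepthFEt
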