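import Groth.Agent.H88.DepthRestr
import Groth.Agent.H88.RestrSheafify
import Groth.Agent.H88.EtMod.AbBridge
import Groth.Agent.Lib.EtSite.Stalk
import Mathlib.GroupTheory.Perm.Cycle.Type
import Mathlib.GroupTheory.QuotientGroup.Finite

/-!
Depth for locally constant sheaves from depth for `ℤ/ℓ`.
-/

set_option linter.style.haveILetI false

universe u

open CategoryTheory CategoryTheory.Limits CategoryTheory.Abelian AlgebraicGeometry Opposite

namespace Groth.Agent.H88.DepthFLC

open Groth.Agent.Lib.EtSite Groth.Agent.Lib.EtSite.Basic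

section Ext

variable {X U : Scheme.{u}} (j : U ⟶ X) [IsOpenImmersion j]

lemma depthGE_iff_ext (F : EtCoh.Ab X) (n : ℕ) :
    EtDepth.DepthGE j F n ↔ ∀ (X' : Scheme.{u}) (g : X' ⟶ X) [Etale g], ∀ p < n,
      Subsingleton (Ext.{u + 1} (DepthExt.Q (pullback.snd j g)) ((EtCoh.pull g).obj F) p) := by
  rw [DepthRestr.depthGE_iff_restriction]
  constructor
  · intro h X' g _
    haveI : Etale (pullback.snd j g) :=
      haveI : IsOpenImmersion (pullback.snd j g) := inferInstance
      inferInstance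
    exact (DepthExt.forall_subsingleton_iff (pullback.snd j g) n).2 (h X' g)
  · intro h X' g _ _
    exact (DepthExt.forall_subsingleton_iff (pullback.snd j g) n).1 (h X' g)

/-- Depth is stable under extensions. -/
theorem depthGE_ext {S : ShortComplex (EtCoh.Ab X)} (hS : S.ShortExact) (n : ℕ)
    (h₁ : EtDepth.DepthGE j S.X₁ n) (h₃ : EtDepth.DepthGE j S.X₃ n) : EtDepth.DepthGE j S.X₂ n := by
  rw [depthGE_iff_ext] at h₁ h₃ ⊢
  intro X' g _ p hp
  haveI := h₁ X' g p hp
  haveI := h₃ X' g p hp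
  have hS' : (S.map (EtCoh.pull g)).ShortExact :=
    haveI : PreservesColimitsOfSize.{0, 0} (EtCoh.pull g) := (EtCoh.pullPushAdj g).leftAdjoint_preservesColimits
    haveI : PreservesFiniteColimits (EtCoh.pull g) := PreservesColimitsOfSize.preservesFiniteColimits _
    haveI : PreservesFiniteLimits (EtCoh.pull g) := preservesFiniteLimits_of_natIso (Lib.EtJ.Basic.pullIsoRestr g).symm
    hS.map_of_exact _
  refine subsingleton_of_forall_eq 0 fun x => ?_
  obtain ⟨y, rfl⟩ := Ext.covariant_sequence_exact₂ (DepthExt.Q (pullback.snd j g)) hS' x (by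
    haveI : Subsingleton (Ext.{u + 1} (DepthExt.Q (pullback.snd j g)) (S.map (EtCoh.pull g)).X₃ p) :=
      h₃ X' g p hp
    exact Subsingleton.elim _ _)
  haveI : Subsingleton (Ext.{u + 1} (DepthExt.Q (pullback.snd j g)) (S.map (EtCoh.pull g)).X₁ p) :=
    h₁ X' g p hp
  rw [Subsingleton.elim y 0, Ext.zero_comp]
  rfl

lemma depthGE_of_iso {F G : EtCoh.Ab X} (e : F ≅ G) {n : ℕ} (h : EtDepth.DepthGE j F n) :
    EtDepth.DepthGE j G n :=
  fun p hp => (h p hp).of_iso ((EtDual.locCoh j p).mapIso e).symm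

instance : ((Functor.const X.Etaleᵒᵖ) ⋙
    presheafToSheaf X.smallEtaleTopology AddCommGrpCat.{u + 1}).Additive := inferInstance

/-- Constant sheaves of finite `ℓ`-groups. -/
theorem depthGE_const {ℓ : ℕ} (hℓ : ℓ.Prime) (n : ℕ)
    (h : EtDepth.DepthGE j (EtCoh.const X (ZMod ℓ)) n) :
    ∀ (c : ℕ) (M : Type) [AddCommGroup M] [Finite M], Nat.card M = c →
      (∀ m : M, ∃ k : ℕ, ℓ ^ k • m = 0) → EtDepth.DepthGE j (EtCoh.const X M) n := by
  intro c
  induction c using Nat.strong_induction_on with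
  | _ c ih =>
    intro M _ _ hc htor
    let K := (Functor.const X.Etaleᵒᵖ) ⋙ presheafToSheaf X.smallEtaleTopology AddCommGrpCat.{u + 1}
    rcases subsingleton_or_nontrivial M with hM | hM
    · rw [depthGE_iff_ext]
      intro X' g _ p _
      have hz : IsZero ((EtCoh.pull g).obj (EtCoh.const X M)) :=
        haveI : PreservesFiniteLimits (EtCoh.pull g) :=
          preservesFiniteLimits_of_natIso (Lib.EtJ.Basic.pullIsoRestr g).symm
        Functor.map_isZero _ (Functor.map_isZero K
          (AddCommGrpCat.isZero_of_subsingleton (AddCommGrpCat.of (ULift.{u + 1} M))))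
      refine subsingleton_of_forall_eq 0 fun x => ?_
      rw [← x.comp_mk₀_id, (IsZero.iff_id_eq_zero _).1 hz, Ext.mk₀_zero, Ext.comp_zero]
    · haveI : Fact ℓ.Prime := ⟨hℓ⟩
      obtain ⟨m, hm⟩ : ∃ m : M, addOrderOf m = ℓ := by
        obtain ⟨a, ha⟩ := exists_ne (0 : M)
        obtain ⟨k, hk⟩ := htor a
        obtain ⟨i, hi, hi'⟩ := (Nat.dvd_prime_pow hℓ).1 (addOrderOf_dvd_of_nsmul_eq_zero hk)
        have hi0 : i ≠ 0 := fun h0 => ha (AddMonoid.addOrderOf_eq_one_iff.1 (by rw [hi', h0, pow_zero]))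
        exact exists_prime_addOrderOf_dvd_card' ℓ
          ((dvd_pow_self ℓ hi0).trans (hi' ▸ addOrderOf_dvd_natCard a))
      let A := AddSubgroup.zmultiples m
      let e : ZMod ℓ ≃+ A :=
        (ZMod.ringEquivCongr hm.symm).toAddEquiv.trans ((ZMod.ringEquivCongr
          (Nat.card_zmultiples m).symm).toAddEquiv.trans (zmodAddCyclicAddEquiv inferInstance))
      let f : AddCommGrpCat.of (ULift.{u + 1} (ZMod ℓ)) ⟶ AddCommGrpCat.of (ULift.{u + 1} M) :=
        AddCommGrpCat.ofHom (AddEquiv.ulift.symm.toAddMonoidHom.comp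
          (A.subtype.comp (e.toAddMonoidHom.comp AddEquiv.ulift.toAddMonoidHom)))
      let g : AddCommGrpCat.of (ULift.{u + 1} M) ⟶ AddCommGrpCat.of (ULift.{u + 1} (M ⧸ A)) :=
        AddCommGrpCat.ofHom (AddEquiv.ulift.symm.toAddMonoidHom.comp
          ((QuotientAddGroup.mk' A).comp AddEquiv.ulift.toAddMonoidHom))
      have w : f ≫ g = 0 := by
        ext ⟨x⟩
        exact (QuotientAddGroup.eq_zero_iff _).2 (e x).2
      have hs : (ShortComplex.mk f g w).ShortExact :=
        { exact := by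
            rw [ShortComplex.ab_exact_iff]
            rintro ⟨x⟩ hx
            obtain ⟨y, hy⟩ := e.surjective ⟨x, (QuotientAddGroup.eq_zero_iff _).1 (congrArg ULift.down hx)⟩
            exact ⟨⟨y⟩, congrArg ULift.up (congrArg Subtype.val hy)⟩
          mono_f := (AddCommGrpCat.mono_iff_injective f).2 fun a b hab =>
            ULift.ext _ _ (e.injective (Subtype.ext (congrArg ULift.down hab)))
          epi_g := (AddCommGrpCat.epi_iff_surjective g).2 fun ⟨y⟩ => by
            obtain ⟨x, rfl⟩ := QuotientAddGroup.mk_surjective y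
            exact ⟨⟨x⟩, rfl⟩ }
      haveI : PreservesFiniteLimits K := comp_preservesFiniteLimits _ _
      haveI : PreservesFiniteColimits K := comp_preservesFiniteColimits _ _
      refine depthGE_ext j (hs.map_of_exact K) n h
        (ih (Nat.card (M ⧸ A)) ?_ (M ⧸ A) rfl fun y => ?_)
      · rw [← hc, AddSubgroup.card_eq_card_quotient_mul_card_addSubgroup A]
        exact lt_mul_of_one_lt_right Nat.card_pos (by rw [Nat.card_zmultiples, hm]; exact hℓ.one_lt)
      · obtain ⟨x, rfl⟩ := QuotientAddGroup.mk_surjective y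
        obtain ⟨k, hk⟩ := htor x
        exact ⟨k, by rw [← QuotientAddGroup.mk_nsmul, hk, QuotientAddGroup.mk_zero]⟩

end Ext

section Chart

variable {X : Scheme.{u}} {U : X.Etale} {F : EtModW.Mod EtMod.AbBridge.Zl.{u} X}

/-- The object of `X` of an object over `U`. -/
noncomputable abbrev toU (T : U.left.Etale) : (EtShriek.compEtale U.hom).obj T ⟶ U :=
  MorphismProperty.Over.homMk T.hom rfl

/-- Constant sections given by a chart. -/
noncomputable def constHom {N : Type} [AddCommGroup N] (φ : N →+ F.obj.obj (op U)) :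
    (Functor.const U.left.Etaleᵒᵖ).obj (AddCommGrpCat.of (ULift.{u + 1} N)) ⟶
      ((EtShriek.restrAlong U.hom).obj ((EtMod.AbBridge.fg X).obj F)).obj where
  app T := AddCommGrpCat.ofHom
    (((F.obj.map (toU T.unop).op).hom.toAddMonoidHom.comp φ).comp AddEquiv.ulift.toAddMonoidHom)
  naturality {T T'} g := by
    refine AddCommGrpCat.hom_ext (DFunLike.ext _ _ fun m => ?_)
    change F.obj.map (toU T'.unop).op (φ m.down) =
      F.obj.map ((EtShriek.compEtale U.hom).map g.unop).op (F.obj.map (toU T.unop).op (φ m.down))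
    rw [← ConcreteCategory.comp_apply, ← Functor.map_comp, ← op_comp]
    congr 4
    exact MorphismProperty.Over.Hom.ext (MorphismProperty.Over.w g.unop).symm

theorem nonempty_restrAlong_iso {N : Type} [AddCommGroup N] (φ : N →+ F.obj.obj (op U))
    (hφ : ∀ (Ω : Type u) [Field Ω] [IsSepClosed Ω] (ξ : Spec (CommRingCat.of Ω) ⟶ X)
      (p : (Scheme.pointSmallEtale ξ).fiber.obj U),
      Function.Bijective fun m => EtMod.LCChart.germ F U ξ p (φ m)) :
    Nonempty (EtCoh.const U.left N ≅ (EtShriek.restrAlong U.hom).obj ((EtMod.AbBridge.fg X).obj F)) := by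
  let J := U.left.smallEtaleTopology
  let τ := constHom φ
  haveI hinj : Presheaf.IsLocallyInjective J τ := by
    refine ⟨fun {T} m m' hm => ?_⟩
    refine (mem_topology_iff _).2 fun w => ?_
    obtain ⟨p, -⟩ := exists_fiber_geomPoint ((EtShriek.compEtale U.hom).obj T.unop) w
    have hmm : m = m' := ULift.ext _ _ ((hφ _ _ ((Scheme.pointSmallEtale _).fiber.map (toU T.unop) p)).1 (by
      change EtMod.LCChart.germ F U _ _ (φ m.down) = EtMod.LCChart.germ F U _ _ (φ m'.down)
      rw [← EtMod.LCChart.germ_map, ← EtMod.LCChart.germ_map]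
      exact congrArg _ hm))
    subst hmm
    exact ⟨T.unop, 𝟙 _, rfl, w, rfl⟩
  haveI hsurj : Presheaf.IsLocallySurjective J τ := by
    refine ⟨fun {T} s => ?_⟩
    refine (mem_topology_iff _).2 fun w => ?_
    let T₁ := (EtShriek.compEtale U.hom).obj T
    obtain ⟨p, hp⟩ := exists_fiber_geomPoint T₁ w
    obtain ⟨m, hm⟩ := (hφ _ _ ((Scheme.pointSmallEtale _).fiber.map (toU T) p)).2
      (EtMod.LCChart.germ F T₁ _ p s)
    have hm' : EtMod.LCChart.germ F T₁ _ p (F.obj.map (toU T).op (φ m)) =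
        EtMod.LCChart.germ F T₁ _ p s := by
      rw [EtMod.LCChart.germ_map]; exact hm
    obtain ⟨V, g, q, hq, hV⟩ := ((Scheme.pointSmallEtale _).toPresheafFiber_eq_iff' T₁ p _ _).1 hm'
    let T' : U.left.Etale := MorphismProperty.Over.mk ⊤ (g.left ≫ T.hom)
      (EtCoh.etaleMP.of_postcomp (W' := EtCoh.etaleMP) _ U.hom U.prop (by
        have e : g.left ≫ T.hom ≫ U.hom = V.hom := MorphismProperty.Over.w g
        rw [Category.assoc]
        exact (show (g.left ≫ T.hom ≫ U.hom) = V.hom from e) ▸ V.prop))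
    let g' : T' ⟶ T := MorphismProperty.Over.homMk g.left rfl
    let v : T'.left := fiberPt (U := V) q
    have hv : g'.left.base v = w := (fiberPt_map g q).symm.trans ((congrArg fiberPt hq).trans hp)
    refine ⟨T', g', ⟨ULift.up m, ?_⟩, v, hv⟩
    let i : (EtShriek.compEtale U.hom).obj T' ⟶ V :=
      MorphismProperty.Over.homMk (𝟙 _) (by
        refine (Category.id_comp _).trans ?_
        exact (MorphismProperty.Over.w g).symm.trans (Category.assoc _ _ _).symm)
    have e1 : (EtShriek.compEtale U.hom).map g' = i ≫ g :=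
      MorphismProperty.Over.Hom.ext (Category.id_comp _).symm
    have e2 : toU T' = (EtShriek.compEtale U.hom).map g' ≫ toU T :=
      MorphismProperty.Over.Hom.ext rfl
    change F.obj.map (toU T').op (φ m) = F.obj.map ((EtShriek.compEtale U.hom).map g').op s
    rw [e2, e1]
    simp only [op_comp, Functor.map_comp, ConcreteCategory.comp_apply]
    exact congrArg (F.obj.map i.op) hV
  have hW : J.W τ := (J.W_iff_isLocallyBijective τ).2 ⟨hinj, hsurj⟩
  have hiso : IsIso ((presheafToSheaf J AddCommGrpCat.{u + 1}).map τ) := (J.W_iff τ).1 hW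
  exact ⟨@asIso _ _ _ _ _ hiso ≪≫ (asIso (sheafificationAdjunction J AddCommGrpCat.{u + 1}).counit).app
    ((EtShriek.restrAlong U.hom).obj ((EtMod.AbBridge.fg X).obj F))⟩

end Chart

theorem depthGE_flc {X U : Scheme.{u}} (j : U ⟶ X) [IsOpenImmersion j] {ℓ : ℕ} (hℓ : ℓ.Prime) (n : ℕ)
    (hX : EtDepth.DepthGE j (EtCoh.const X (ZMod ℓ)) n) (F : EtCoh.Ab X)
    (hF : EtCoh.IsFiniteLocallyConstant F) (ht : EtDepth.IsLTorsion ℓ F) : EtDepth.DepthGE j F n := by
  obtain ⟨F', ⟨e⟩⟩ := EtMod.AbBridge.exists_lift F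
  have h := (EtMod.AbBridge.isFiniteLocallyConstant_iff F').1 (EtMod.AbBridge.isFiniteLC_of_iso e.symm hF)
  choose V hV N i1 i2 i3 φ hφ using h
  intro p hp
  refine RestrSheafify.isZero_of_covers (V := V) (fun x => ⟨x, hV x⟩) _ fun x => ?_
  letI := i1 x
  letI := i2 x
  haveI := i3 x
  haveI : Small.{0} (N x) := Countable.toSmall _
  let ψ : Shrink.{0} (N x) →+ F'.obj.obj (op (V x)) :=
    (φ x).toAddMonoidHom.comp (Shrink.addEquiv.{0} (α := N x)).toAddMonoidHom
  have hψ : ∀ (Ω : Type u) [Field Ω] [IsSepClosed Ω] (ξ : Spec (CommRingCat.of Ω) ⟶ X)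
      (q : (Scheme.pointSmallEtale ξ).fiber.obj (V x)),
      Function.Bijective fun m => EtMod.LCChart.germ F' (V x) ξ q (ψ m) := fun Ω _ _ ξ q =>
    (hφ x Ω ξ q).comp (Shrink.addEquiv.{0} (α := N x)).bijective
  obtain ⟨c⟩ := nonempty_restrAlong_iso ψ hψ
  haveI : Finite (Shrink.{0} (N x)) := Finite.of_equiv _ (equivShrink.{0} (N x))
  have htor : ∀ m : Shrink.{0} (N x), ∃ k : ℕ, ℓ ^ k • m = 0 := by
    intro m
    obtain ⟨v, -⟩ := hV x
    obtain ⟨W, g, ⟨w, hw⟩, k, hk⟩ := ht (V x) (e.hom.hom.app (op (V x)) (ψ m)) v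
    obtain ⟨q, -⟩ := exists_fiber_geomPoint W w
    refine ⟨k, (hψ _ _ ((Scheme.pointSmallEtale _).fiber.map g q)).1 ?_⟩
    change EtMod.LCChart.germ F' (V x) _ _ (ψ _) = EtMod.LCChart.germ F' (V x) _ _ (ψ 0)
    rw [map_nsmul, map_zero, map_zero, map_nsmul, ← EtMod.LCChart.germ_map, ← map_nsmul]
    have hz : e.hom.hom.app (op W) (ℓ ^ k • F'.obj.map g.op (ψ m)) = 0 := by
      refine (map_nsmul _ _ _).trans (Eq.trans ?_ hk)
      exact congrArg (ℓ ^ k • ·) (congrArg (fun t => t.hom (ψ m)) (e.hom.hom.naturality g.op))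
    have hz' : (ℓ ^ k • F'.obj.map g.op (ψ m)) = 0 := by
      have := congrArg (fun t => (t.hom.app (op W)).hom (ℓ ^ k • F'.obj.map g.op (ψ m))) e.hom_inv_id
      exact this.symm.trans ((congrArg (e.inv.hom.app (op W)) hz).trans (map_zero _))
    rw [hz', map_zero]
  have hres : EtDepth.DepthGE (Restrict.jW j (V x).hom) (EtCoh.const (V x).left (ZMod ℓ)) n :=
    fun q hq => ((EtShriek.restrAlong (V x).hom).map_isZero (hX q hq)).of_iso
      (Restrict.locCohRestr j (V x).hom _ q ≪≫
        (EtDual.locCoh _ q).mapIso (RestrSheafify.restrConstIso (V x).hom (ZMod ℓ))).symm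
  exact (depthGE_const _ hℓ n hres _ _ rfl htor p hp).of_iso
    (Restrict.locCohRestr j (V x).hom F p ≪≫
      (EtDual.locCoh _ p).mapIso ((EtShriek.restrAlong (V x).hom).mapIso e.symm ≪≫ c.symm))

end Groth.Agent.H88.DepthFLC
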