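import Groth.Agent.H88.DepthExt

/-!
Depth on `X` against the cohomology of the schemes etale over `X`.
-/

universe u

open CategoryTheory CategoryTheory.Limits CategoryTheory.Abelian AlgebraicGeometry Opposite

namespace Groth.Agent.H88.DepthRestr

open DepthSec

variable {X U : Scheme.{u}} (j : U ⟶ X)

omit j in
lemma map_map {A : EtCoh.Ab X} {a b c : X.Etale} (f : b ⟶ a) (g : c ⟶ b) (x : S A a) :
    A.obj.map g.op (A.obj.map f.op x) = A.obj.map (g ≫ f).op x :=
  (Restrict.map_comp_apply A.obj f.op g.op x).symm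

lemma ex_of_iso (K : CochainComplex (EtCoh.Ab X) ℕ) {W V : X.Etale} (e : W ≅ V) {p : ℕ}
    (h : Ex j K W p) : Ex j K V p := by
  intro a ha hda
  have ha' : Sup j ((K.X p).obj.map e.hom.op a : S (K.X p) W) :=
    fun T w hT => (map_map e.hom w a).trans (ha T _ hT)
  obtain ⟨b, hb, hdb⟩ := h _ ha' (by rw [app_map, hda, map_zero])
  refine ⟨(K.X (p - 1)).obj.map e.inv.op b, fun T w hT => (map_map e.inv w b).trans (hb T _ hT), ?_⟩
  rw [app_map, hdb, map_map]
  simp

variable {W U' : Scheme.{u}} (π : W ⟶ X) [Etale π] (j' : U' ⟶ W)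

/-- `W` as an object over `X`. -/
noncomputable abbrev objW : X.Etale := (EtShriek.compEtale π).obj (EtCoh.top W)

lemma sup_restr_iff (hj : Set.range j'.base = π.base ⁻¹' Set.range j.base) {A : EtCoh.Ab X}
    (a : S A (objW π)) :
    Sup j' (A := (EtShriek.restrAlong π).obj A) (V := EtCoh.top W) a ↔ Sup j (A := A) (V := objW π) a := by
  have hr : ∀ T : W.Etale, Set.range ((EtShriek.compEtale π).obj T).hom.base ⊆ Set.range j.base ↔
      Set.range T.hom.base ⊆ Set.range j'.base := fun T => by
    rw [hj]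
    change Set.range (T.hom ≫ π).base ⊆ _ ↔ _
    rw [Scheme.Hom.comp_base, TopCat.coe_comp, Set.range_comp, Set.image_subset_iff]
  refine ⟨fun h T w hT => ?_, fun h T w hT => h _ ((EtShriek.compEtale π).map w) ((hr T).2 hT)⟩
  let l : T.left ⟶ W := w.left
  have hw : l ≫ π = T.hom :=
    (l ≫= (Category.id_comp π).symm).trans (MorphismProperty.Over.w w)
  let T' : W.Etale := MorphismProperty.Over.mk ⊤ l
    (EtCoh.etaleMP.of_postcomp (W' := EtCoh.etaleMP) l π inferInstance (hw ▸ T.prop))
  let w' : T' ⟶ EtCoh.top W := MorphismProperty.Over.homMk l (Category.comp_id l)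
  let i : T ⟶ (EtShriek.compEtale π).obj T' :=
    MorphismProperty.Over.homMk (𝟙 _) ((Category.id_comp _).trans hw)
  have hi : w = i ≫ (EtShriek.compEtale π).map w' :=
    MorphismProperty.Over.Hom.ext (Category.id_comp _).symm
  have hT' : Set.range ((EtShriek.compEtale π).obj T').hom.base ⊆ Set.range j.base := by
    change Set.range (l ≫ π).base ⊆ _
    rwa [hw]
  rw [hi]
  exact (Restrict.map_comp_apply A.obj _ i.op a).trans
    ((congrArg (A.obj.map i.op) (h T' w' ((hr T').1 hT'))).trans (map_zero _))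

lemma ex_restr_iff (hj : Set.range j'.base = π.base ⁻¹' Set.range j.base)
    (K : CochainComplex (EtCoh.Ab X) ℕ) (p : ℕ) :
    Ex j' (((EtShriek.restrAlong π).mapHomologicalComplex _).obj K) (EtCoh.top W) p ↔
      Ex j K (objW π) p := by
  constructor
  · intro h a ha hda
    obtain ⟨b, hb, hdb⟩ := h a ((sup_restr_iff j π j' hj a).2 ha) hda
    exact ⟨b, (sup_restr_iff j π j' hj b).1 hb, hdb⟩
  · intro h a ha hda
    obtain ⟨b, hb, hdb⟩ := h a ((sup_restr_iff j π j' hj a).1 ha) hda
    exact ⟨b, (sup_restr_iff j π j' hj b).2 hb, hdb⟩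

variable {F : EtCoh.Ab X}

/-- An injective resolution of the inverse image. -/
noncomputable def pullRes (I : InjectiveResolution F) : InjectiveResolution ((EtCoh.pull π).obj F) where
  cocomplex := ((EtShriek.restrAlong π).mapHomologicalComplex _).obj I.cocomplex
  injective n := (Restrict.restrRes π I).injective n
  ι := (CochainComplex.single₀ _).map ((Lib.EtJ.Basic.pullIsoRestr π).hom.app F) ≫ (Restrict.restrRes π I).ι
  quasiIso := by
    haveI : IsIso ((CochainComplex.single₀ (EtCoh.Ab W)).map ((Lib.EtJ.Basic.pullIsoRestr π).hom.app F)) :=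
      inferInstance
    exact @quasiIso_comp _ _ _ _ _ _ _ _ _ _ _ _ _ (by infer_instance) (Restrict.restrRes π I).quasiIso

variable [IsOpenImmersion j'] 

/-- Exactness over `W` is the behaviour of restriction on the cohomology of `W`. -/
theorem forall_ex_iff [PreservesFiniteLimits (EtCoh.pull j')]
    (hj : Set.range j'.base = π.base ⁻¹' Set.range j.base) (I : InjectiveResolution F) (n : ℕ) :
    (∀ p < n, Ex j I.cocomplex (objW π) p) ↔
      (∀ p : ℕ, p + 1 < n → Function.Bijective (EtCore.Hpull j' ((EtCoh.pull π).obj F) p)) ∧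
      (∀ p : ℕ, p + 1 = n → Function.Injective (EtCore.Hpull j' ((EtCoh.pull π).obj F) p)) := by
  rw [← DepthExt.forall_subsingleton_iff j' n]
  exact forall₂_congr fun p _ => (ex_restr_iff j π j' hj I.cocomplex p).symm.trans
    (DepthExt.subsingleton_ext_iff j' (pullRes π I) p).symm

omit [Etale π] [IsOpenImmersion j'] in
/-- The criterion. -/
theorem depthGE_iff_restriction [IsOpenImmersion j] (F : EtCoh.Ab X) (n : ℕ) :
    EtDepth.DepthGE j F n ↔ ∀ (X' : Scheme.{u}) (g : X' ⟶ X) [Etale g]
      [PreservesFiniteLimits (EtCoh.pull (pullback.snd j g))],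
      (∀ p : ℕ, p + 1 < n → Function.Bijective (EtCore.Hpull (pullback.snd j g) ((EtCoh.pull g).obj F) p)) ∧
      (∀ p : ℕ, p + 1 = n → Function.Injective (EtCore.Hpull (pullback.snd j g) ((EtCoh.pull g).obj F) p)) := by
  let I := injectiveResolution F
  rw [depthGE_iff j I n]
  constructor
  · intro h X' g _ _
    exact (forall_ex_iff j g (pullback.snd j g) (Scheme.Pullback.range_snd j g) I n).1
      fun p hp => h p hp _
  · intro h p hp V
    haveI : Etale (pullback.snd j V.hom) :=
      haveI : IsOpenImmersion (pullback.snd j V.hom) := inferInstance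
      inferInstance
    have e : objW V.hom ≅ V := MorphismProperty.Over.isoMk (Iso.refl _) (by
      change 𝟙 _ ≫ V.hom = 𝟙 _ ≫ V.hom
      rfl)
    exact ex_of_iso j _ e ((forall_ex_iff j V.hom (pullback.snd j V.hom)
      (Scheme.Pullback.range_snd j V.hom) I n).2 (h V.left V.hom) p hp)

end Groth.Agent.H88.DepthRestr
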