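import Groth.Agent.H88.LocCohSeq
import Groth.Prelude.Def_RDer

/-!
Cohomology with supports as sections of the local cohomology sheaf, under semipurity.
-/

universe u

open CategoryTheory CategoryTheory.Limits AlgebraicGeometry Opposite

namespace Groth.Agent.H88.LocCohComp

variable {X : Scheme.{u}}

/-- Sections over `V`. -/
noncomputable abbrev Γat (V : X.Etale) : EtCoh.Ab X ⥤ AddCommGrpCat.{u + 1} :=
  sheafToPresheaf X.smallEtaleTopology AddCommGrpCat.{u + 1} ⋙
    (evaluation X.Etaleᵒᵖ AddCommGrpCat.{u + 1}).obj (op V)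

instance Γat_preservesFiniteLimits (V : X.Etale) : PreservesFiniteLimits (Γat V) :=
  comp_preservesFiniteLimits _ _

/-- `0 → Zⁱ → Kⁱ → Bⁱ⁺¹ → 0` with `B = ` kernel of the projection to cohomology. -/
lemma boundaries_acyclic (V : X.Etale) (K : CochainComplex (EtCoh.Ab X) ℕ)
    (hK : ∀ i, FreeSheaf.Acyclic V (K.X i)) (m : ℕ) (hm : ∀ i < m, IsZero (K.homology i)) :
    ∀ i, i ≤ m → FreeSheaf.Acyclic V (kernel (K.homologyπ i)) ∧
      (∀ k, k + 1 = i → ∃ (g : K.X k ⟶ kernel (K.homologyπ i)),
        g ≫ kernel.ι _ = K.toCycles k i ∧ Function.Surjective ((Γat V).map g)) := by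
  intro i
  induction i with
  | zero =>
    intro _
    refine ⟨FreeSheaf.acyclic_of_isZero V ?_, fun k hk => absurd hk (by omega)⟩
    haveI : IsIso (K.homologyπ 0) := K.isIso_homologyπ _ 0 rfl (K.shape _ _ (by simp))
    exact IsZero.of_mono_eq_zero (kernel.ι (K.homologyπ 0))
      (by rw [← cancel_mono (K.homologyπ 0), kernel.condition, zero_comp])
  | succ i ih =>
    intro hi
    obtain ⟨hB, -⟩ := ih (by omega)
    have hZ : FreeSheaf.Acyclic V (K.cycles i) := by
      haveI : Epi (K.homologyπ i) := inferInstance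
      haveI : IsIso (kernel.ι (K.homologyπ i)) :=
        ⟨kernel.lift _ (𝟙 _) ((hm i (by omega)).eq_of_tgt _ _),
          by rw [← cancel_mono (kernel.ι (K.homologyπ i))]; simp, by simp⟩
      let e := asIso (kernel.ι (K.homologyπ i))
      intro q hq
      haveI := hB q hq
      refine subsingleton_of_forall_eq 0 fun x => ?_
      have h0 : x.comp (Abelian.Ext.mk₀ e.inv) (add_zero q) = 0 := Subsingleton.elim _ _
      have h1 := congrArg (fun y => y.comp (Abelian.Ext.mk₀ e.hom) (add_zero q)) h0
      simpa [Abelian.Ext.comp_assoc, Abelian.Ext.mk₀_comp_mk₀] using h1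
    let g : K.X i ⟶ kernel (K.homologyπ (i + 1)) :=
      kernel.lift _ (K.toCycles i (i + 1)) (K.toCycles_comp_homologyπ i (i + 1))
    let S : ShortComplex (EtCoh.Ab X) := ShortComplex.mk (K.iCycles i) g (by
      rw [← cancel_mono (kernel.ι (K.homologyπ (i + 1))), Category.assoc, kernel.lift_ι, zero_comp,
        ← cancel_mono (K.iCycles (i + 1)), Category.assoc, HomologicalComplex.toCycles_i,
        HomologicalComplex.iCycles_d, zero_comp])
    haveI : Epi g := by
      have := (ShortComplex.mk (K.toCycles i (i + 1)) (K.homologyπ (i + 1)) (by simp)).exact_of_g_is_cokernel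
        (K.homologyIsCokernel i (i + 1) (by simp))
      exact this.epi_kernelLift
    have hex : S.Exact := by
      refine ShortComplex.exact_of_f_is_kernel _ ?_
      exact KernelFork.IsLimit.ofι _ _
        (fun {W} t ht => K.liftCycles t (i + 1) (by simp) (by
          rw [← K.toCycles_i i (i + 1), ← kernel.lift_ι (K.homologyπ (i + 1)) (K.toCycles i (i + 1))
            (K.toCycles_comp_homologyπ i (i + 1))]
          change t ≫ (g ≫ kernel.ι _) ≫ _ = 0
          rw [Category.assoc, reassoc_of% ht, zero_comp]))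
        (fun {W} t ht => K.liftCycles_i _ _ _ _)
        (fun {W} t ht l hl => by rw [← cancel_mono (K.iCycles i), K.liftCycles_i, hl])
    have hS : S.ShortExact := { exact := hex, mono_f := inferInstanceAs (Mono (K.iCycles i)), epi_g := this }
    refine ⟨FreeSheaf.acyclic_quotient hS hZ (hK i), fun k hk => ?_⟩
    obtain rfl : k = i := by omega
    exact ⟨g, kernel.lift_ι _ _ _, FreeSheaf.surjective_of_acyclic hS hZ⟩

/-- The canonical comparison is an isomorphism in the first possibly non-zero degree. -/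
theorem isIso_homologyComparison (V : X.Etale) (K : CochainComplex (EtCoh.Ab X) ℕ)
    (hK : ∀ i, FreeSheaf.Acyclic V (K.X i)) (m : ℕ) (hm : ∀ i < m, IsZero (K.homology i)) :
    IsIso (RDer.homologyComparison (Γat V) K m) := by
  obtain ⟨hB, hsurj⟩ := boundaries_acyclic V K hK m hm m le_rfl
  let S₂ : ShortComplex (EtCoh.Ab X) :=
    ShortComplex.mk (kernel.ι (K.homologyπ m)) (K.homologyπ m) (kernel.condition _)
  have hS₂ : S₂.ShortExact := { exact := ShortComplex.exact_of_f_is_kernel _ (kernelIsKernel _) }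
  have hπ : Function.Surjective ((Γat V).map (K.homologyπ m)) := FreeSheaf.surjective_of_acyclic hS₂ hB
  haveI : Mono S₂.f := inferInstanceAs (Mono (kernel.ι _))
  have hex : (S₂.map (Γat V)).Exact := hS₂.exact.map_of_mono_of_preservesKernel _ inferInstance inferInstance
  haveI : Mono (K.iCycles m) := inferInstance
  let T := ((Γat V).mapHomologicalComplex (ComplexShape.up ℕ)).obj K
  have hwi : (Γat V).map (K.iCycles m) ≫ (T.sc m).g = 0 := by
    change (Γat V).map (K.iCycles m) ≫ (Γat V).map (K.d m _) = 0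
    rw [← Functor.map_comp, K.iCycles_d, Functor.map_zero]
  have hi : IsLimit (KernelFork.ofι ((Γat V).map (K.iCycles m)) hwi) :=
    KernelFork.mapIsLimit _ (K.cyclesIsKernel m ((ComplexShape.up ℕ).next m) rfl) (Γat V)
  set f' : (Γat V).obj (K.sc m).X₁ ⟶ (Γat V).obj (K.cycles m) :=
    hi.lift (KernelFork.ofι (T.sc m).f (T.sc m).zero) with hf'
  have hf'' : f' = (Γat V).map (K.toCycles ((ComplexShape.up ℕ).prev m) m) := by
    rw [hf']
    refine Fork.IsLimit.hom_ext hi ?_
    rw [Fork.IsLimit.lift_ι]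
    change (Γat V).map (K.d _ m) = (Γat V).map _ ≫ (Γat V).map (K.iCycles m)
    rw [← Functor.map_comp, K.toCycles_i]
  have hwπ : f' ≫ (Γat V).map (K.homologyπ m) = 0 := by
    rw [hf'']
    change (Γat V).map (K.toCycles _ m) ≫ (Γat V).map (K.homologyπ m) = 0
    rw [← Functor.map_comp, K.toCycles_comp_homologyπ, Functor.map_zero]
  haveI : Epi ((Γat V).map (K.homologyπ m)) := (AddCommGrpCat.epi_iff_surjective _).2 hπ
  have hcok : (ShortComplex.mk f' ((Γat V).map (K.homologyπ m)) hwπ).Exact := by
    rw [ShortComplex.ab_exact_iff]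
    intro x hx
    obtain ⟨b, hb⟩ := (ShortComplex.ab_exact_iff _).1 hex x hx
    rcases m with _ | k
    · haveI : IsIso (K.homologyπ 0) := K.isIso_homologyπ _ 0 rfl (K.shape _ _ (by simp))
      have hx0 : x = 0 := (AddCommGrpCat.mono_iff_injective ((Γat V).map (K.homologyπ 0))).1 inferInstance
        (hx.trans (map_zero _).symm)
      exact ⟨0, by simp [hx0]⟩
    · obtain ⟨g, hg, hgs⟩ := hsurj _ (by simp : (ComplexShape.up ℕ).prev (k + 1) + 1 = k + 1)
      obtain ⟨a, ha⟩ := hgs b
      refine ⟨a, ?_⟩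
      change f' a = x
      rw [hf'', ← hg, Functor.map_comp]
      change (Γat V).map (kernel.ι _) ((Γat V).map g a) = x
      rw [ha]
      exact hb
  let h : (T.sc m).LeftHomologyData :=
    { K := (Γat V).obj (K.cycles m), H := (Γat V).obj (K.homology m),
      i := (Γat V).map (K.iCycles m), π := (Γat V).map (K.homologyπ m),
      wi := hwi, hi := hi, wπ := hwπ, hπ := hcok.gIsCokernel }
  have e : RDer.homologyComparison (Γat V) K m = h.homologyIso.hom := by
    have h1 : T.homologyπ m ≫ h.homologyIso.hom = h.cyclesIso.hom ≫ h.π :=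
      h.homologyπ_comp_homologyIso_hom
    have h2 : RDer.cyclesComparison (Γat V) K m = h.cyclesIso.hom := by
      refine Fork.IsLimit.hom_ext hi ?_
      exact (RDer.cyclesComparison_i (Γat V) K m).trans h.cyclesIso_hom_comp_i.symm
    rw [← cancel_epi (T.homologyπ m), h1, RDer.homologyπ_homologyComparison, h2]
    rfl
  rw [e]
  exact h.homologyIso.isIso_hom

/-- Sections commute with cohomology in the first possibly non-zero degree. -/
theorem nonempty_homology_iso (V : X.Etale) (K : CochainComplex (EtCoh.Ab X) ℕ)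
    (hK : ∀ i, FreeSheaf.Acyclic V (K.X i)) (m : ℕ) (hm : ∀ i < m, IsZero (K.homology i)) :
    Nonempty ((((Γat V).mapHomologicalComplex _).obj K).homology m ≅ (Γat V).obj (K.homology m)) :=
  haveI := isIso_homologyComparison V K hK m hm
  ⟨asIso (RDer.homologyComparison (Γat V) K m)⟩

variable {U : Scheme.{u}} (j : U ⟶ X) [IsOpenImmersion j]

/-- If `H^q_Z(F) = 0` for `q < m` then `H^m_Z(X, F) = Γ(X, H^m_Z(F))`. -/
theorem nonempty_HY_iso (F : EtCoh.Ab X) (m : ℕ)
    (h : ∀ q < m, IsZero ((EtDual.locCoh j q).obj F)) :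
    Nonempty ((EtDual.HY j m).obj F ≅ ((EtDual.locCoh j m).obj F).obj.obj (op (EtCoh.top X))) := by
  let I := injectiveResolution F
  obtain ⟨e⟩ := nonempty_homology_iso (EtCoh.top X) (LocCoh.complexSeq j I.cocomplex).X₁
    (fun i => LocCoh.secSupp_acyclic j (I.cocomplex.X i) _) m
    (fun q hq => (h q hq).of_iso (LocCoh.locCohIso j I q).symm)
  exact ⟨I.isoRightDerivedObj (EtDual.gammaSupp j) m ≪≫ e ≪≫
    (Γat (EtCoh.top X)).mapIso (LocCoh.locCohIso j I m).symm⟩

end Groth.Agent.H88.LocCohComp
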