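import Groth.Agent.H88.Restrict
import Groth.Agent.H88.LocCohComp
import Groth.Prelude.Def_EtDepth

/-!
Depth along a closed subset, read off on the sections with support of an injective resolution.
-/

universe u

open CategoryTheory CategoryTheory.Limits AlgebraicGeometry Opposite

namespace Groth.Agent.H88.DepthSec

variable {X : Scheme.{u}}

/-- Sections of `A` over `V`. -/
abbrev S (A : EtCoh.Ab X) (V : X.Etale) := (A.obj.obj (op V) : Type _)

/-- The section vanishes on every object lying over `U`. -/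
def Sup {U : Scheme.{u}} (j : U ⟶ X) {A : EtCoh.Ab X} {V : X.Etale} (a : S A V) : Prop :=
  ∀ (T : X.Etale) (w : T ⟶ V), Set.range T.hom.base ⊆ Set.range j.base → A.obj.map w.op a = 0

/-- Exactness at `p` of the sections supported off `U`. -/
def Ex {U : Scheme.{u}} (j : U ⟶ X) (K : CochainComplex (EtCoh.Ab X) ℕ) (V : X.Etale) (p : ℕ) : Prop :=
  ∀ a : S (K.X p) V, Sup j a → (K.d p (p + 1)).hom.app (op V) a = 0 →
    ∃ b : S (K.X (p - 1)) V, Sup j b ∧ (K.d (p - 1) p).hom.app (op V) b = a

lemma Sup.mono {U U' : Scheme.{u}} {j : U ⟶ X} {k : U' ⟶ X} (h : Set.range j.base ⊆ Set.range k.base)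
    {A : EtCoh.Ab X} {V : X.Etale} {a : S A V} (ha : Sup k a) : Sup j a :=
  fun T w hT => ha T w (hT.trans h)

lemma map_sub' {A : EtCoh.Ab X} {T V : X.Etale} (w : T ⟶ V) (a b : S A V) :
    A.obj.map w.op (a - b) = A.obj.map w.op a - A.obj.map w.op b :=
  map_sub _ _ _

lemma Sup.sub {U : Scheme.{u}} {j : U ⟶ X} {A : EtCoh.Ab X} {V : X.Etale} {a b : S A V}
    (ha : Sup j a) (hb : Sup j b) : Sup j (a - b) := fun T w hT => by
  rw [map_sub', ha T w hT, hb T w hT, sub_zero]

lemma app_map {A B : EtCoh.Ab X} (f : A ⟶ B) {T V : X.Etale} (w : T ⟶ V) (a : S A V) :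
    f.hom.app (op T) (A.obj.map w.op a) = B.obj.map w.op (f.hom.app (op V) a) :=
  congrArg (fun m => m.hom a) (f.hom.naturality w.op)

lemma Sup.app {U : Scheme.{u}} {j : U ⟶ X} {A B : EtCoh.Ab X} (f : A ⟶ B) {V : X.Etale} {a : S A V}
    (ha : Sup j a) : Sup j (f.hom.app (op V) a) := fun T w hT => by
  rw [← app_map, ha T w hT, map_zero]

section Open

variable {U : Scheme.{u}} (j : U ⟶ X) [IsOpenImmersion j]

/-- `V ∩ U`. -/
noncomputable abbrev cut (V : X.Etale) : X.Etale := (EtShriek.compEtale j).obj ((EtCoh.bc j).obj V)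

/-- The inclusion of `V ∩ U` in `V`. -/
noncomputable abbrev cutι (V : X.Etale) : cut j V ⟶ V := (Lib.EtJ.Basic.compEtaleAdj j).counit.app V

lemma exists_factor {V T : X.Etale} (w : T ⟶ V) (hT : Set.range T.hom.base ⊆ Set.range j.base) :
    ∃ w' : T ⟶ cut j V, w = w' ≫ cutι j V := by
  let l : T.left ⟶ U := IsOpenImmersion.lift j T.hom hT
  let m : T.left ⟶ pullback V.hom j := pullback.lift w.left l
    (by rw [IsOpenImmersion.lift_fac]; exact MorphismProperty.Over.w w)
  refine ⟨MorphismProperty.Over.homMk m (by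
    change pullback.lift w.left l _ ≫ pullback.snd V.hom j ≫ j = T.hom
    rw [pullback.lift_snd_assoc, IsOpenImmersion.lift_fac]), ?_⟩
  apply MorphismProperty.Over.Hom.ext
  have e1 : (cutι j V).left = pullback.fst V.hom j := by
    simp [cutι, Lib.EtJ.Basic.compEtaleAdj, MorphismProperty.Over.mapPullbackAdj]
    try rfl
  change w.left = m ≫ (cutι j V).left
  rw [e1, pullback.lift_fst]

lemma sup_iff {A : EtCoh.Ab X} {V : X.Etale} (a : S A V) :
    Sup j a ↔ A.obj.map (cutι j V).op a = 0 := by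
  refine ⟨fun h => h _ _ (Restrict.range_bc_obj j V), fun h T w hT => ?_⟩
  obtain ⟨w', rfl⟩ := exists_factor j w hT
  exact (Restrict.map_comp_apply A.obj (cutι j V).op w'.op a).trans
    ((congrArg (A.obj.map w'.op) h).trans (map_zero _))

lemma sup_iff_unitApp {A : EtCoh.Ab X} {V : X.Etale} (a : S A V) :
    Sup j a ↔ (EtDual.unitApp j A).hom.app (op V) a = 0 := by
  rw [sup_iff]
  have h := Adjunction.unit_leftAdjointUniq_hom_app (EtCoh.pullPushAdj j)
    (Lib.EtJ.Basic.restrPushAdj j) A
  let e := (EtCoh.push j).mapIso ((Adjunction.leftAdjointUniq (EtCoh.pullPushAdj j)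
    (Lib.EtJ.Basic.restrPushAdj j)).app A)
  have key : e.hom.hom.app (op V) ((EtDual.unitApp j A).hom.app (op V) a) = A.obj.map (cutι j V).op a :=
    congrArg (fun m => (m.hom.app (op V)).hom a) h
  constructor
  · intro h0
    have h2 : e.inv.hom.app (op V) (e.hom.hom.app (op V) ((EtDual.unitApp j A).hom.app (op V) a)) =
        (EtDual.unitApp j A).hom.app (op V) a :=
      congrArg (fun m => (m.hom.app (op V)).hom ((EtDual.unitApp j A).hom.app (op V) a)) e.hom_inv_id
    exact h2.symm.trans ((congrArg (e.inv.hom.app (op V)) (key.trans h0)).trans (map_zero _))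
  · intro h0
    exact key.symm.trans ((congrArg (e.hom.hom.app (op V)) h0).trans (map_zero _))

lemma injective_ι (A : EtCoh.Ab X) (V : X.Etale) :
    Function.Injective ((kernel.ι (EtDual.unitApp j A)).hom.app (op V)) := by
  haveI : Mono ((LocCohComp.Γat V).map (kernel.ι (EtDual.unitApp j A))) := inferInstance
  exact (AddCommGrpCat.mono_iff_injective _).1 this

lemma exists_lift {A : EtCoh.Ab X} {V : X.Etale} {a : S A V} (ha : Sup j a) :
    ∃ x, (kernel.ι (EtDual.unitApp j A)).hom.app (op V) x = a := by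
  have hex : ((ShortComplex.mk (kernel.ι (EtDual.unitApp j A)) (EtDual.unitApp j A)
      (kernel.condition _)).map (LocCohComp.Γat V)).Exact :=
    ShortComplex.Exact.map_of_mono_of_preservesKernel
      (ShortComplex.exact_of_f_is_kernel _ (kernelIsKernel _)) (LocCohComp.Γat V)
      (inferInstanceAs (Mono (kernel.ι (EtDual.unitApp j A)))) inferInstance
  exact (ShortComplex.ab_exact_iff _).1 hex a ((sup_iff_unitApp j a).1 ha)

lemma sup_ι {A : EtCoh.Ab X} {V : X.Etale} (x : ((EtDual.secSupp j).obj A).obj.obj (op V)) :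
    Sup j ((kernel.ι (EtDual.unitApp j A)).hom.app (op V) x) :=
  (sup_iff_unitApp j _).2 (congrArg (fun m : (EtDual.secSupp j).obj A ⟶
    (EtCoh.push j).obj ((EtCoh.pull j).obj A) => (m.hom.app (op V)).hom x) (kernel.condition _))

lemma ι_d (K : CochainComplex (EtCoh.Ab X) ℕ) (p q : ℕ) {V : X.Etale}
    (x : ((EtDual.secSupp j).obj (K.X p)).obj.obj (op V)) :
    (kernel.ι (EtDual.unitApp j (K.X q))).hom.app (op V)
        (((EtDual.secSupp j).map (K.d p q)).hom.app (op V) x) =
      (K.d p q).hom.app (op V) ((kernel.ι (EtDual.unitApp j (K.X p))).hom.app (op V) x) :=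
  congrArg (fun m => (m.hom.app (op V)).hom x) ((LocCoh.secSuppι j).naturality (K.d p q))

/-- The elementwise criterion agrees with the homology of the sections supported off `U`. -/
lemma ex_iff (K : CochainComplex (EtCoh.Ab X) ℕ) (V : X.Etale) (p : ℕ) :
    Ex j K V p ↔ IsZero ((((LocCohComp.Γat V).mapHomologicalComplex _).obj
      (((EtDual.secSupp j).mapHomologicalComplex _).obj K)).homology p) := by
  rw [← HomologicalComplex.exactAt_iff_isZero_homology,
    HomologicalComplex.exactAt_iff' _ (p - 1) p (p + 1) (by rcases p with _ | p <;> simp) (by simp),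
    ShortComplex.ab_exact_iff]
  constructor
  · intro h x hx
    obtain ⟨b, hb, hdb⟩ := h _ (sup_ι j x) ((ι_d j K p (p + 1) x).symm.trans
      ((congrArg _ hx).trans (map_zero _)))
    obtain ⟨y, hy⟩ := exists_lift j hb
    exact ⟨y, injective_ι j _ V ((ι_d j K (p - 1) p y).trans ((congrArg _ hy).trans hdb))⟩
  · intro h a ha hda
    obtain ⟨x, rfl⟩ := exists_lift j ha
    have hx : ((EtDual.secSupp j).map (K.d p (p + 1))).hom.app (op V) x = 0 :=
      injective_ι j _ V ((ι_d j K p (p + 1) x).trans (hda.trans (map_zero _).symm))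
    obtain ⟨y, hy⟩ := h x hx
    exact ⟨_, sup_ι j y, (ι_d j K (p - 1) p y).symm.trans (congrArg _ hy)⟩

variable {F : EtCoh.Ab X}

/-- Depth read off on sections. -/
theorem depthGE_iff (I : InjectiveResolution F) (n : ℕ) :
    EtDepth.DepthGE j F n ↔ ∀ p < n, ∀ V : X.Etale, Ex j I.cocomplex V p := by
  constructor
  · intro h p hp V
    obtain ⟨e⟩ := LocCohComp.nonempty_homology_iso V (LocCoh.complexSeq j I.cocomplex).X₁
      (fun i => LocCoh.secSupp_acyclic j (I.cocomplex.X i) _) p
      (fun q hq => (h q (hq.trans hp)).of_iso (LocCoh.locCohIso j I q).symm)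
    exact (ex_iff j _ V p).2 (((LocCohComp.Γat V).map_isZero
      ((h p hp).of_iso (LocCoh.locCohIso j I p).symm)).of_iso e)
  · intro h
    suffices ∀ p, p < n → IsZero ((LocCoh.complexSeq j I.cocomplex).X₁.homology p) from
      fun p hp => (this p hp).of_iso (LocCoh.locCohIso j I p)
    intro p
    induction p using Nat.strong_induction_on with
    | _ p ih =>
      intro hp
      rw [IsZero.iff_id_eq_zero]
      ext V s
      obtain ⟨e⟩ := LocCohComp.nonempty_homology_iso V.unop (LocCoh.complexSeq j I.cocomplex).X₁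
        (fun i => LocCoh.secSupp_acyclic j (I.cocomplex.X i) _) p
        (fun q hq => ih q hq (hq.trans hp))
      haveI := AddCommGrpCat.subsingleton_of_isZero (((ex_iff j _ V.unop p).1 (h p hp V.unop)).of_iso e.symm)
      exact Subsingleton.elim (α := (LocCohComp.Γat V.unop).obj _) _ _

/-- Supported sections of an injective sheaf extend along monomorphisms containing `U`. -/
lemma exists_extend (A : EtCoh.Ab X) [Injective A] {T V : X.Etale} (w : T ⟶ V) [Mono w]
    (hw : ∀ (T' : X.Etale) (w' : T' ⟶ V), Set.range T'.hom.base ⊆ Set.range j.base →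
      ∃ v : T' ⟶ T, v ≫ w = w') {z : S A T} (hz : Sup j z) :
    ∃ z' : S A V, Sup j z' ∧ A.obj.map w.op z' = z := by
  obtain ⟨z', hz'⟩ := FreeSheaf.map_surjective_of_injective w A z
  refine ⟨z', fun T' w' hT' => ?_, hz'⟩
  obtain ⟨v, rfl⟩ := hw T' w' hT'
  exact (Restrict.map_comp_apply A.obj w.op v.op z').trans ((congrArg _ hz').trans (hz T' v hT'))

/-- Shrinking the closed subset preserves exactness. -/
theorem ex_mono {W : Scheme.{u}} (k : W ⟶ X) [IsOpenImmersion k]
    (hUV : Set.range j.base ⊆ Set.range k.base) (I : InjectiveResolution F) {n : ℕ}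
    (h : ∀ p < n, ∀ V : X.Etale, Ex j I.cocomplex V p) :
    ∀ p < n, ∀ V : X.Etale, Ex k I.cocomplex V p := by
  intro p hp V a ha hda
  obtain ⟨y, hy, hdy⟩ := h p hp V a (ha.mono hUV) hda
  rcases p with _ | p
  · refine ⟨0, fun T w _ => map_zero _, ?_⟩
    rw [map_zero, ← hdy, I.cocomplex.shape _ _ (by simp)]
    rfl
  let c := cutι k V
  haveI : Mono c := LocCoh.mono_counit k V
  have hy' : Sup j ((I.cocomplex.X p).obj.map c.op y) := fun T w hT =>
    (Restrict.map_comp_apply _ c.op w.op y).symm.trans (hy T (w ≫ c) hT)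
  have hdy' : (I.cocomplex.d p (p + 1)).hom.app (op (cut k V))
      ((I.cocomplex.X p).obj.map c.op y) = 0 := by
    rw [app_map]
    exact (congrArg _ hdy).trans ((sup_iff k a).1 ha)
  obtain ⟨z, hz, hdz⟩ := h p (by omega) (cut k V) _ hy' hdy'
  obtain ⟨z', hz', rfl⟩ := exists_extend j _ c (fun T' w' hT' => by
    obtain ⟨v, hv⟩ := exists_factor k w' (hT'.trans hUV)
    exact ⟨v, hv.symm⟩) hz
  let y₀ : S (I.cocomplex.X p) V := y
  refine ⟨y₀ - (I.cocomplex.d (p - 1) p).hom.app (op V) z', (sup_iff k _).2 ?_, ?_⟩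
  · rw [map_sub', ← app_map]
    exact sub_eq_zero.2 hdz.symm
  · rw [map_sub]
    have h0 : (I.cocomplex.d p (p + 1)).hom.app (op V) ((I.cocomplex.d (p - 1) p).hom.app (op V) z') = 0 :=
      congrArg (fun m => (m.hom.app (op V)).hom z') (I.cocomplex.d_comp_d (p - 1) p (p + 1))
    exact ((congrArg₂ (· - ·) hdy h0).trans (sub_zero _) :)

end Open

end Groth.Agent.H88.DepthSec
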