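import Mathlib.Algebra.Module.Injective
import Mathlib.RingTheory.PrincipalIdealDomain
import Mathlib.RingTheory.Int.Basic
import Mathlib.Data.ZMod.Basic

/-! `ℤ/n` is self-injective. -/

namespace Groth.Agent.H88.ZModBaer

theorem baer (n : ℕ) [NeZero n] : Module.Baer (ZMod n) (ZMod n) := by
  intro I f
  haveI : IsPrincipalIdealRing (ZMod n) :=
    IsPrincipalIdealRing.of_surjective (Int.castRingHom (ZMod n)) ZMod.intCast_surjective
  obtain ⟨a, rfl⟩ := IsPrincipalIdealRing.principal I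
  set d := Nat.gcd a.val n with hd
  have hda : a ∈ Ideal.span {(d : ZMod n)} :=
    Ideal.mem_span_singleton.2 ⟨(a.val / d : ℕ), by
      rw [← Nat.cast_mul, Nat.mul_div_cancel' (Nat.gcd_dvd_left _ _), ZMod.natCast_val, ZMod.cast_id]⟩
  have had : (d : ZMod n) ∈ Ideal.span {a} := by
    refine Ideal.mem_span_singleton.2 ⟨((Nat.gcdA a.val n : ℤ) : ZMod n), ?_⟩
    have := congrArg (Int.cast : ℤ → ZMod n) (Nat.gcd_eq_gcd_ab a.val n)
    simpa [hd] using this
  have hdd : d ∣ n := Nat.gcd_dvd_right _ _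
  set c := f ⟨(d : ZMod n), had⟩ with hc
  have h0 : ((n / d : ℕ) : ZMod n) * c = 0 := by
    rw [hc, ← smul_eq_mul, ← map_smul]
    have : ((n / d : ℕ) : ZMod n) • (⟨(d : ZMod n), had⟩ : Ideal.span {a}) = 0 := by
      ext
      simp [← Nat.cast_mul, Nat.div_mul_cancel hdd]
    rw [this, map_zero]
  rw [← ZMod.natCast_zmod_val c, ← Nat.cast_mul, ZMod.natCast_eq_zero_iff] at h0
  have hd0 : 0 < d := Nat.gcd_pos_of_pos_right _ (NeZero.pos n)
  have hdc : d ∣ c.val := by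
    have : n / d * d ∣ n / d * c.val := by rwa [Nat.div_mul_cancel hdd]
    exact (Nat.mul_dvd_mul_iff_left (Nat.div_pos (Nat.le_of_dvd (NeZero.pos n) hdd) hd0)).1 this
  obtain ⟨e, he⟩ := hdc
  refine ⟨LinearMap.mulRight (ZMod n) (e : ZMod n), fun x hx => ?_⟩
  obtain ⟨r, hr⟩ := Ideal.mem_span_singleton.1 ((Ideal.span_le.2 (by simpa using hda)) hx)
  have : (⟨x, hx⟩ : Ideal.span {a}) = r • ⟨(d : ZMod n), had⟩ := by
    ext; simp [hr, mul_comm]
  rw [this, map_smul, ← hc, ← ZMod.natCast_zmod_val c, he, Nat.cast_mul]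
  simp [hr]
  ring

end Groth.Agent.H88.ZModBaer
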