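import Groth.Agent.H88.MuLocal
import Groth.Agent.H88.ZModBaer
import Groth.Prelude.Def_EtDual
import Mathlib.Algebra.Module.ZMod

/-!
Tensoring with the constant sheaf `ℤ/n`; Tate twists are etale locally constant.
-/

universe u

open CategoryTheory CategoryTheory.Limits AlgebraicGeometry Opposite TensorProduct

namespace Groth.Agent.H88.TateLocal

variable {W : Scheme.{u}} {n : ℕ}

lemma nsmul_app {A B : EtCoh.Ab W} (φ : A ⟶ B) (m : ℕ) (T : W.Etale) (a : A.obj.obj (op T)) :
    (m • φ).hom.app (op T) a = m • φ.hom.app (op T) a :=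
  congrArg (fun f => f.hom a)
    (map_nsmul ((sheafToPresheaf W.smallEtaleTopology AddCommGrpCat.{u + 1} ⋙
      (evaluation _ _).obj (op T)).mapAddHom (X := A) (Y := B)) m φ)

lemma killedBy_const (W : Scheme.{u}) (n : ℕ) : EtCoh.KilledBy n (EtCoh.const W (ZMod n)) := by
  intro T b
  have h0 : n • 𝟙 (AddCommGrpCat.of (ULift.{u + 1} (ZMod n))) = 0 := by
    refine AddCommGrpCat.hom_ext (DFunLike.ext _ _ fun x => ?_)
    change n • x = 0
    ext
    simp
  have h1 : n • 𝟙 (EtCoh.const W (ZMod n)) = 0 := by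
    haveI : (presheafToSheaf W.smallEtaleTopology AddCommGrpCat.{u + 1}).Additive :=
      (sheafificationAdjunction W.smallEtaleTopology AddCommGrpCat.{u + 1}).left_adjoint_additive
    have hc : n • 𝟙 ((Functor.const W.Etaleᵒᵖ).obj (AddCommGrpCat.of (ULift.{u + 1} (ZMod n)))) = 0 := by
      refine NatTrans.ext (funext fun V => ?_)
      exact (map_nsmul (((evaluation _ _).obj V).mapAddHom
        (X := (Functor.const W.Etaleᵒᵖ).obj (AddCommGrpCat.of (ULift.{u + 1} (ZMod n))))
        (Y := (Functor.const W.Etaleᵒᵖ).obj (AddCommGrpCat.of (ULift.{u + 1} (ZMod n))))) n (𝟙 _)).trans h0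
    have h2 : (presheafToSheaf W.smallEtaleTopology AddCommGrpCat.{u + 1}).map
        (n • 𝟙 ((Functor.const W.Etaleᵒᵖ).obj (AddCommGrpCat.of (ULift.{u + 1} (ZMod n))))) = 0 := by
      rw [hc, Functor.map_zero]
    rw [Functor.map_nsmul, CategoryTheory.Functor.map_id] at h2
    exact h2
  have h3 := nsmul_app (𝟙 (EtCoh.const W (ZMod n))) n T b
  rw [h1] at h3
  exact h3.symm

/-- The presheaf unit of the constant sheaf. -/
noncomputable def constUnit (W : Scheme.{u}) (n : ℕ) :
    (Functor.const W.Etaleᵒᵖ).obj (AddCommGrpCat.of (ULift.{u + 1} (ZMod n))) ⟶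
      (EtCoh.const W (ZMod n)).obj :=
  CategoryTheory.toSheafify W.smallEtaleTopology _

/-- The section `1` of the constant sheaf `ℤ/n`. -/
noncomputable def one (T : W.Etale) : (EtCoh.const W (ZMod n)).obj.obj (op T) :=
  (constUnit W n).app (op T) (ULift.up 1)

lemma map_one_sect {T T' : W.Etale} (f : T' ⟶ T) :
    (EtCoh.const W (ZMod n)).obj.map f.op (one T) = (one T' : (EtCoh.const W (ZMod n)).obj.obj (op T')) :=
  (congrArg (fun m => m.hom (ULift.up 1)) ((constUnit W n).naturality f.op)).symm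

lemma constUnit_injective {T : W.Etale} (t : T.left) :
    Function.Injective ((constUnit W n).app (op T)) := by
  intro a b h
  haveI : Presheaf.IsLocallyInjective W.smallEtaleTopology (constUnit W n) :=
    Presheaf.isLocallyInjective_toSheafify' _ _
  have hS := Presheaf.equalizerSieve_mem W.smallEtaleTopology (constUnit W n) a b h
  rw [show W.smallEtaleTopology = (W.smallPretopology (P := EtCoh.etaleMP) (Q := EtCoh.etaleMP)).toGrothendieck
    from Scheme.smallGrothendieckTopology_eq_toGrothendieck_smallPretopology W le_rfl] at hS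
  obtain ⟨Y, f, y, hf, -, -⟩ := (Scheme.mem_toGrothendieck_smallPretopology T _).1 hS t
  exact hf

lemma section_eq_zero_of_empty (A : EtCoh.Ab W) {T : W.Etale} (hT : IsEmpty T.left)
    (a : A.obj.obj (op T)) : a = 0 := by
  have hsep := ((isSheaf_iff_isSheaf_of_type _ _).1
    ((Presheaf.isSheaf_iff_isSheaf_forget _ _ (forget AddCommGrpCat.{u + 1})).1 A.property)) ⊥
      (MuLocal.mem_of_pointwise (⊥ : Sieve T) fun t => isEmptyElim t)
  exact hsep.isSeparatedFor.ext fun Y f hf => hf.elim

variable [NeZero n]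

lemma eq_zero_of_tmul_eq_zero {A B : Type (u + 1)} [AddCommGroup A] [AddCommGroup B]
    (hA : ∀ a : A, n • a = 0) (hB : ∀ b : B, n • b = 0) (c₀ : ZMod n →+ B) (hc : Function.Injective c₀)
    (a : A) (h : a ⊗ₜ[ℤ] c₀ 1 = 0) : a = 0 := by
  letI : Module (ZMod n) B := AddCommGroup.zmodModule hB
  letI : Module (ZMod n) A := AddCommGroup.zmodModule hA
  obtain ⟨r, hr⟩ := (ZModBaer.baer n).extension_property (AddMonoidHom.toZModLinearMap n c₀) hc LinearMap.id
  let r' : B →+ ZMod n := r.toAddMonoidHom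
  have hr1 : r' (c₀ 1) = 1 := LinearMap.congr_fun hr 1
  let m : A ⊗[ℤ] B →ₗ[ℤ] A :=
    TensorProduct.lift (LinearMap.mk₂ ℤ (fun x y => r' y • x)
      (fun x x' y => smul_add _ _ _) (fun k x y => smul_comm _ _ _)
      (fun x y y' => by rw [map_add, add_smul]) (fun k x y => by rw [map_zsmul, smul_assoc]))
  have h' := congrArg m h
  change r' (c₀ 1) • a = m 0 at h'
  rwa [hr1, one_smul, map_zero] at h'

/-- `a ↦ a ⊗ 1`. -/
noncomputable def tensorOne (A : EtCoh.Ab W) : A.obj ⟶ EtDual.tensorPre A (EtCoh.const W (ZMod n)) where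
  app T := AddCommGrpCat.ofHom
    (((TensorProduct.mk ℤ (A.obj.obj T) ((EtCoh.const W (ZMod n)).obj.obj T)).flip
      (one T.unop)).toAddMonoidHom)
  naturality {T T'} f := by
    refine AddCommGrpCat.hom_ext (DFunLike.ext _ _ fun a => ?_)
    change (A.obj.map f a) ⊗ₜ[ℤ] (one T'.unop : (EtCoh.const W (ZMod n)).obj.obj (op T'.unop)) =
      (A.obj.map f a) ⊗ₜ[ℤ] ((EtCoh.const W (ZMod n)).obj.map f (one T.unop))
    exact congrArg (fun q => (A.obj.map f a) ⊗ₜ[ℤ] q) (map_one_sect f.unop).symm

lemma tensorOne_injective (A : EtCoh.Ab W) (hA : EtCoh.KilledBy n A) (T : W.Etale) :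
    Function.Injective ((tensorOne (n := n) A).app (op T)) := by
  rw [injective_iff_map_eq_zero]
  intro a ha
  rcases isEmpty_or_nonempty T.left with hT | ⟨⟨t⟩⟩
  · exact section_eq_zero_of_empty A hT a
  exact eq_zero_of_tmul_eq_zero (hA T) (killedBy_const W n T)
    (((constUnit W n).app (op T)).hom.comp
      (AddEquiv.ulift : ULift.{u + 1} (ZMod n) ≃+ ZMod n).symm.toAddMonoidHom)
    (fun x y hxy => AddEquiv.ulift.symm.injective (constUnit_injective (n := n) (T := T) t hxy)) a ha

lemma tensorOne_surjective_locally (A : EtCoh.Ab W) :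
    Presheaf.IsLocallySurjective W.smallEtaleTopology (tensorOne (n := n) A) := by
  constructor
  intro T s
  induction s using TensorProduct.induction_on with
  | zero =>
    refine W.smallEtaleTopology.superset_covering (fun Y f _ => ⟨0, ?_⟩) (W.smallEtaleTopology.top_mem T)
    exact (map_zero _).trans (map_zero _).symm
  | add x y hx hy =>
    refine W.smallEtaleTopology.superset_covering ?_ (W.smallEtaleTopology.intersection_covering hx hy)
    rintro Y f ⟨⟨p, hp⟩, ⟨q, hq⟩⟩
    exact ⟨p + q, (map_add _ p q).trans ((congrArg₂ (· + ·) hp hq).trans (map_add _ x y).symm)⟩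
  | tmul a b =>
    haveI : Presheaf.IsLocallySurjective W.smallEtaleTopology (constUnit W n) :=
      Presheaf.isLocallySurjective_toSheafify' _ _
    refine W.smallEtaleTopology.superset_covering ?_
      (Presheaf.imageSieve_mem W.smallEtaleTopology (constUnit W n) b)
    rintro Y f ⟨⟨k⟩, hk⟩
    obtain ⟨k, rfl⟩ := ZMod.intCast_surjective k
    refine ⟨k • A.obj.map f.op a, ?_⟩
    change (k • A.obj.map f.op a) ⊗ₜ[ℤ] (one Y : (EtCoh.const W (ZMod n)).obj.obj (op Y)) =
      (A.obj.map f.op a) ⊗ₜ[ℤ] ((EtCoh.const W (ZMod n)).obj.map f.op b)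
    rw [smul_tmul]
    refine congrArg (fun q => (A.obj.map f.op a) ⊗ₜ[ℤ] q) (Eq.trans ?_ hk)
    refine (map_zsmul ((constUnit W n).app (op Y)).hom k (ULift.up 1)).symm.trans ?_
    refine congrArg ((constUnit W n).app (op Y)) ?_
    exact ULift.ext _ _ (by simp)

/-- Tensoring with the constant sheaf `ℤ/n` does nothing to sheaves killed by `n`. -/
noncomputable def tensorConstIso (A : EtCoh.Ab W) (hA : EtCoh.KilledBy n A) :
    A ≅ EtDual.tensorAb A (EtCoh.const W (ZMod n)) :=
  haveI : Presheaf.IsLocallySurjective W.smallEtaleTopology (tensorOne (n := n) A) :=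
    tensorOne_surjective_locally A
  haveI : Presheaf.IsLocallyInjective W.smallEtaleTopology (tensorOne (n := n) A) :=
    Presheaf.isLocallyInjective_of_injective _ _ (fun T => tensorOne_injective A hA T.unop)
  (@asIso _ _ _ _ ((sheafificationAdjunction W.smallEtaleTopology AddCommGrpCat.{u + 1}).counit.app A)
      inferInstance).symm ≪≫
    @asIso _ _ _ _ ((presheafToSheaf W.smallEtaleTopology AddCommGrpCat.{u + 1}).map (tensorOne (n := n) A))
      ((GrothendieckTopology.W_iff _ _).1 (GrothendieckTopology.W_of_isLocallyBijective _ _))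

omit [NeZero n] in
/-- Tate twists become constant on a covering. -/
theorem exists_covers (X : Scheme.{u}) (hn : 0 < n) (hu : IsUnit (n : Γ(X, ⊤))) :
    ∃ (ι : Type u) (V : ι → X.Etale), EtCoh.Covers V ∧ ∀ (a : ι) (c : ℕ),
      Nonempty ((EtShriek.restrAlong (V a).hom).obj (EtDual.tate X n c) ≅
        EtCoh.const (V a).left (ZMod n)) := by
  haveI : NeZero n := ⟨hn.ne'⟩
  choose V v ζ hv hζ using fun x => Cyclotomic.exists_etale_root (n := n) x hn hu
  refine ⟨X, V, fun x => ⟨x, v x, hv x⟩, fun a c => ?_⟩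
  obtain ⟨m⟩ := MuLocal.exists_iso_const hn hu (V a) (ζ a) (hζ a)
  induction c with
  | zero => exact ⟨RestrSheafify.restrConstIso (V a).hom (ZMod n)⟩
  | succ c ih =>
    obtain ⟨e⟩ := ih
    exact ⟨RestrSheafify.restrTensorIso (V a).hom _ _ ≪≫
      (presheafToSheaf _ _).mapIso (RestrSheafify.tensorPreIso e m.symm) ≪≫
      (tensorConstIso _ (killedBy_const _ n)).symm⟩

end Groth.Agent.H88.TateLocal
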