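import Groth.Agent.H88.DepthSec
import Groth.Agent.H88.TateLocal
import Groth.Agent.Lib.EtSite.Stalk
import Groth.Agent.Lib.EtJ.Supp

/-!
Depth `≥ 1` and `≥ 2`: sections of the sheaf itself; constant sheaves and clopen subsets.
-/

set_option linter.style.haveILetI false

universe u

open CategoryTheory CategoryTheory.Limits AlgebraicGeometry Opposite

namespace Groth.Agent.H88.DepthTwo

open DepthSec Groth.Agent.Lib.EtSite.Basic

section Sheaf

variable {X U : Scheme.{u}} (j : U ⟶ X) [IsOpenImmersion j] (F : EtCoh.Ab X)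

theorem depthGE_one_iff : EtDepth.DepthGE j F 1 ↔ ∀ (V : X.Etale) (s : S F V), Sup j s → s = 0 := by
  let I := injectiveResolution F
  have hι : ∀ V : X.Etale, Function.Injective ((I.ι.f 0).hom.app (op V)) := fun V => by
    haveI : Mono ((LocCohComp.Γat V).map (I.ι.f 0)) := inferInstance
    exact (AddCommGrpCat.mono_iff_injective _).1 this
  have hd : ∀ (V : X.Etale) (a : S (I.cocomplex.X 0) V),
      (I.cocomplex.d 0 0).hom.app (op V) a = 0 := fun V a => by
    rw [I.cocomplex.shape _ _ (by simp)]; rfl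
  rw [depthGE_iff j I 1]
  constructor
  · intro h V s hs
    obtain ⟨b, -, hb⟩ := h 0 Nat.one_pos V ((I.ι.f 0).hom.app (op V) s) (hs.app _)
      (congrArg (fun m => (m.hom.app (op V)).hom s) I.ι_f_zero_comp_complex_d)
    exact hι V (((hb.symm.trans (hd V b))).trans (map_zero _).symm)
  · intro h p hp V a ha hda
    obtain rfl : p = 0 := by omega
    have hker := KernelFork.mapIsLimit I.kernelFork I.isLimitKernelFork (LocCohComp.Γat V)
    have hex : ((ShortComplex.mk (I.ι.f 0) (I.cocomplex.d 0 1) I.ι_f_zero_comp_complex_d).map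
        (LocCohComp.Γat V)).Exact :=
      ShortComplex.exact_of_f_is_kernel _ hker
    obtain ⟨s, hs⟩ := (ShortComplex.ab_exact_iff _).1 hex a hda
    refine ⟨0, fun T w _ => map_zero _, ?_⟩
    have hs0 : s = 0 := h V s fun T w hT => hι T ((app_map _ w s).trans
      (((congrArg (fun t => (I.cocomplex.X 0).obj.map w.op t) hs).trans (ha T w hT)).trans (map_zero _).symm))
    rw [map_zero, ← hs, hs0]
    exact (map_zero _).symm

theorem depthGE_two_iff : EtDepth.DepthGE j F 2 ↔
    (∀ (V : X.Etale) (s : S F V), Sup j s → s = 0) ∧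
    ∀ (V : X.Etale), Function.Surjective (F.obj.map (cutι j V).op) := by
  have key : ∀ V : X.Etale, ∃ e : _ ≃ F.obj.obj (op (cut j V)),
      ∀ a, e ((EtDual.unitApp j F).hom.app (op V) a) = F.obj.map (cutι j V).op a := fun V => by
    have h := Adjunction.unit_leftAdjointUniq_hom_app (EtCoh.pullPushAdj j)
      (Lib.EtJ.Basic.restrPushAdj j) F
    let e := (EtCoh.push j).mapIso ((Adjunction.leftAdjointUniq (EtCoh.pullPushAdj j)
      (Lib.EtJ.Basic.restrPushAdj j)).app F)
    refine ⟨((((sheafToPresheaf _ _).mapIso e).app (op V))).addCommGroupIsoToAddEquiv.toEquiv, fun a => ?_⟩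
    exact congrArg (fun m => (m.hom.app (op V)).hom a) h
  constructor
  · intro h
    have h1 := (depthGE_one_iff j F).1 fun p hp => h p (by omega)
    refine ⟨h1, fun V => ?_⟩
    obtain ⟨e1⟩ := LocCohSeq.nonempty_one_iso j F
    haveI : Epi (EtDual.unitApp j F) :=
      Preadditive.epi_of_cokernel_zero (((h 1 (by omega)).of_iso e1).eq_of_tgt _ _)
    haveI : Mono (EtDual.unitApp j F) := by
      refine Preadditive.mono_of_kernel_zero ?_
      ext W x
      exact h1 W.unop _ (sup_ι j x)
    haveI : IsIso (EtDual.unitApp j F) := isIso_of_mono_of_epi _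
    obtain ⟨e, he⟩ := key V
    intro t
    haveI : IsIso ((LocCohComp.Γat V).map (EtDual.unitApp j F)) := inferInstance
    obtain ⟨a, ha⟩ := ((ConcreteCategory.isIso_iff_bijective _).1 this).2 (e.symm t)
    exact ⟨a, (he a).symm.trans ((congrArg e ha).trans (e.apply_symm_apply t))⟩
  · rintro ⟨h1, h2⟩ p hp
    rcases p with _ | p
    · exact (depthGE_one_iff j F).2 h1 0 Nat.one_pos
    · obtain rfl : p = 0 := by omega
      obtain ⟨e1⟩ := LocCohSeq.nonempty_one_iso j F
      haveI : ∀ W, IsIso ((EtDual.unitApp j F).hom.app W) := fun W => by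
        obtain ⟨e, he⟩ := key W.unop
        refine (ConcreteCategory.isIso_iff_bijective _).2 ⟨fun a b hab => ?_, fun t => ?_⟩
        · refine sub_eq_zero.1 (h1 W.unop _ ((sup_iff_unitApp j _).2 ?_))
          exact (map_sub _ a b).trans (sub_eq_zero.2 hab)
        · obtain ⟨a, ha⟩ := h2 W.unop (e t)
          exact ⟨a, e.injective ((he a).trans ha)⟩
      haveI : IsIso (EtDual.unitApp j F).hom := NatIso.isIso_of_isIso_app _
      haveI : IsIso ((sheafToPresheaf X.smallEtaleTopology AddCommGrpCat.{u + 1}).map (EtDual.unitApp j F)) :=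
        inferInstanceAs (IsIso (EtDual.unitApp j F).hom)
      haveI : IsIso (EtDual.unitApp j F) := isIso_of_reflects_iso _ (sheafToPresheaf X.smallEtaleTopology AddCommGrpCat.{u + 1})
      exact (isZero_cokernel_of_epi (EtDual.unitApp j F)).of_iso e1.symm

end Sheaf

section Const

variable {X : Scheme.{u}} {n : ℕ} {V : X.Etale}

/-- The constant section with value `a`. -/
noncomputable abbrev cst (V : X.Etale) (a : ZMod n) : S (EtCoh.const X (ZMod n)) V :=
  (TateLocal.constUnit X n).app (op V) (ULift.up a)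

lemma map_cst {T : X.Etale} (w : T ⟶ V) (a : ZMod n) :
    (EtCoh.const X (ZMod n)).obj.map w.op (cst V a) = (cst T a : S (EtCoh.const X (ZMod n)) T) :=
  (congrArg (fun m => m.hom (ULift.up a)) ((TateLocal.constUnit X n).naturality w.op)).symm

/-- Where a section takes a given value. -/
def val (s : S (EtCoh.const X (ZMod n)) V) (a : ZMod n) : Set V.left :=
  {v | ∃ (Y : X.Etale) (f : Y ⟶ V), v ∈ Set.range f.left.base ∧
    (EtCoh.const X (ZMod n)).obj.map f.op s = (cst Y a : S (EtCoh.const X (ZMod n)) Y)}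

lemma isOpen_val (s : S (EtCoh.const X (ZMod n)) V) (a : ZMod n) : IsOpen (val s a) := by
  refine isOpen_iff_forall_mem_open.2 fun v ⟨Y, f, hv, hf⟩ => ?_
  exact ⟨Set.range f.left.base, fun w hw => ⟨Y, f, hw, hf⟩, (Lib.EtJ.Supp.isOpenMap_left f).isOpen_range, hv⟩

lemma exists_mem_val (s : S (EtCoh.const X (ZMod n)) V) (v : V.left) : ∃ a, v ∈ val s a := by
  haveI : Presheaf.IsLocallySurjective X.smallEtaleTopology (TateLocal.constUnit X n) :=
    inferInstanceAs (Presheaf.IsLocallySurjective _ (CategoryTheory.toSheafify _ _))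
  obtain ⟨Y, f, ⟨a, ha⟩, y, hy⟩ := (mem_topology_iff _).1
    (Presheaf.imageSieve_mem X.smallEtaleTopology (TateLocal.constUnit X n) s) v
  exact ⟨a.down, Y, f, ⟨y, hy⟩, ha.symm⟩

lemma exists_common {Y Z : X.Etale} (f : Y ⟶ V) (g : Z ⟶ V) {v : V.left}
    (hy : v ∈ Set.range f.left.base) (hz : v ∈ Set.range g.left.base) :
    ∃ (T : X.Etale) (c : T ⟶ Y) (d : T ⟶ Z) (t : T.left), c ≫ f = d ≫ g ∧ f.left.base (c.left.base t) = v := by
  obtain ⟨y, hy⟩ := hy
  obtain ⟨z, hz⟩ := hz
  obtain ⟨t, ht, -⟩ := Scheme.Pullback.exists_preimage_pullback (f := f.left) (g := g.left) y z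
    (hy.trans hz.symm)
  haveI : Etale g.left := EtCoh.etaleMP.of_postcomp (W' := EtCoh.etaleMP) _ V.hom V.prop (by
    have e : g.left ≫ V.hom = Z.hom := MorphismProperty.Over.w g
    exact e ▸ Z.prop)
  haveI : Etale Y.hom := Y.prop
  haveI : Etale (pullback.fst f.left g.left) := inferInstance
  let T : X.Etale := Scheme.Etale.mk (pullback.fst f.left g.left ≫ Y.hom)
  let c : T ⟶ Y := MorphismProperty.Over.homMk (pullback.fst f.left g.left) rfl
  let d : T ⟶ Z := MorphismProperty.Over.homMk (pullback.snd f.left g.left) (by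
    have e : g.left ≫ V.hom = Z.hom := MorphismProperty.Over.w g
    have e' : f.left ≫ V.hom = Y.hom := MorphismProperty.Over.w f
    exact (_ ≫= e.symm).trans ((Category.assoc _ _ _).symm.trans
      ((congrArg (· ≫ V.hom) pullback.condition.symm).trans ((Category.assoc _ _ _).trans (_ ≫= e')))))
  exact ⟨T, c, d, t, MorphismProperty.Over.Hom.ext pullback.condition,
    (congrArg f.left.base ht).trans hy⟩

lemma val_unique (s : S (EtCoh.const X (ZMod n)) V) {v : V.left} {a b : ZMod n}
    (ha : v ∈ val s a) (hb : v ∈ val s b) : a = b := by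
  obtain ⟨Y, f, hy, hf⟩ := ha
  obtain ⟨Z, g, hz, hg⟩ := hb
  obtain ⟨T, c, d, t, hcd, -⟩ := exists_common f g hy hz
  have h1 : (EtCoh.const X (ZMod n)).obj.map (c ≫ f).op s =
      (cst T a : S (EtCoh.const X (ZMod n)) T) :=
    (Restrict.map_comp_apply _ f.op c.op s).trans ((congrArg _ hf).trans (map_cst _ a))
  have h2 : (EtCoh.const X (ZMod n)).obj.map (c ≫ f).op s =
      (cst T b : S (EtCoh.const X (ZMod n)) T) := by
    rw [hcd]
    exact (Restrict.map_comp_apply _ g.op d.op s).trans ((congrArg _ hg).trans (map_cst _ b))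
  exact congrArg ULift.down (TateLocal.constUnit_injective t (h1.symm.trans h2))

lemma isClopen_val (s : S (EtCoh.const X (ZMod n)) V) (a : ZMod n) : IsClopen (val s a) := by
  refine ⟨⟨?_⟩, isOpen_val s a⟩
  have : (val s a)ᶜ = ⋃ b ∈ {b | b ≠ a}, val s b := by
    ext v
    simp only [Set.mem_compl_iff, Set.mem_iUnion, Set.mem_setOf_eq, exists_prop]
    refine ⟨fun h => ?_, fun ⟨b, hb, hv⟩ h => hb (val_unique s hv h)⟩
    obtain ⟨b, hb⟩ := exists_mem_val s v
    exact ⟨b, fun e => h (e ▸ hb), hb⟩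
  rw [this]
  exact isOpen_biUnion fun b _ => isOpen_val s b

lemma eq_of_val {s t : S (EtCoh.const X (ZMod n)) V} (h : ∀ a, val s a ⊆ val t a) : s = t := by
  let Sv : Sieve V :=
    { arrows := fun Y f => (EtCoh.const X (ZMod n)).obj.map f.op s = (EtCoh.const X (ZMod n)).obj.map f.op t
      downward_closed := fun {Y Z f} hf g => (Restrict.map_comp_apply _ f.op g.op s).trans
        ((congrArg _ hf).trans (Restrict.map_comp_apply _ f.op g.op t).symm) }
  have hS : Sv ∈ X.smallEtaleTopology V := by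
    refine (mem_topology_iff _).2 fun v => ?_
    obtain ⟨a, ha⟩ := exists_mem_val s v
    obtain ⟨Y, f, hy, hf⟩ := ha
    obtain ⟨Z, g, hz, hg⟩ := h a ⟨Y, f, hy, hf⟩
    obtain ⟨W, c, d, w, hcd, hw⟩ := exists_common f g hy hz
    refine ⟨W, c ≫ f, ?_, w, hw⟩
    exact (Restrict.map_comp_apply _ f.op c.op s).trans ((congrArg _ hf).trans ((map_cst c a).trans
      ((map_cst d a).symm.trans ((congrArg _ hg.symm).trans ((Restrict.map_comp_apply _ g.op d.op t).symm.trans
        (congrArg (fun k => (EtCoh.const X (ZMod n)).obj.map k.op t) hcd.symm))))))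
  exact (((isSheaf_iff_isSheaf_of_type _ _).1
    ((Presheaf.isSheaf_iff_isSheaf_forget _ _ (forget AddCommGrpCat.{u + 1})).1
      (EtCoh.const X (ZMod n)).property)) Sv hS).isSeparatedFor.ext fun Y f hf => hf

/-- An open subset as an object. -/
noncomputable abbrev openObj (O : V.left.Opens) : X.Etale :=
  haveI : Etale V.hom := V.prop
  Scheme.Etale.mk (O.ι ≫ V.hom)

/-- A section with prescribed values. -/
theorem exists_section (D : ZMod n → V.left.Opens) (hd : ∀ a b v, v ∈ D a → v ∈ D b → a = b)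
    (hc : ∀ v, ∃ a, v ∈ D a) :
    ∃ s : S (EtCoh.const X (ZMod n)) V, ∀ a, val s a = D a := by
  let π : ∀ a : ZMod n, openObj (D a) ⟶ V := fun a => MorphismProperty.Over.homMk (D a).ι rfl
  have hmem : Sieve.ofArrows _ π ∈ X.smallEtaleTopology V := by
    refine (mem_topology_iff _).2 fun v => ?_
    obtain ⟨a, ha⟩ := hc v
    exact ⟨_, π a, Sieve.ofArrows_mk _ π a, ⟨v, ha⟩, rfl⟩
  have hsh : (Presieve.ofArrows _ π).IsSheafFor
      ((EtCoh.const X (ZMod n)).obj ⋙ forget AddCommGrpCat.{u + 1}) :=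
    (Presieve.isSheafFor_iff_generate _).2 (((isSheaf_iff_isSheaf_of_type _ _).1
      ((Presheaf.isSheaf_iff_isSheaf_forget _ _ (forget AddCommGrpCat.{u + 1})).1
        (EtCoh.const X (ZMod n)).property)) _ hmem)
  obtain ⟨s, hs, -⟩ := (Presieve.isSheafFor_arrows_iff _ _).1 hsh (fun a => cst (openObj (D a)) a)
    (fun a b Z gi gj h => by
      by_cases hne : IsEmpty Z.left
      · exact (TateLocal.section_eq_zero_of_empty _ hne _).trans
          (TateLocal.section_eq_zero_of_empty _ hne _).symm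
      · obtain ⟨z⟩ := not_isEmpty_iff.1 hne
        obtain rfl : a = b := hd a b _ (gi.left.base z).2 (by
          have e := congrArg (fun k => k.left.base z) h
          change (D a).ι.base (gi.left.base z) = (D b).ι.base (gj.left.base z) at e
          change (D a).ι.base (gi.left.base z) ∈ D b
          rw [e]
          exact (gj.left.base z).2)
        exact (map_cst gi a).trans (map_cst gj a).symm)
  have hsub : ∀ a, (D a : Set V.left) ⊆ val s a := fun a v hv =>
    ⟨openObj (D a), π a, ⟨⟨v, hv⟩, rfl⟩, hs a⟩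
  refine ⟨s, fun a => Set.Subset.antisymm (fun v hv => ?_) (hsub a)⟩
  obtain ⟨b, hb⟩ := hc v
  exact val_unique s hv (hsub b hb) ▸ hb

lemma val_map {T : X.Etale} (w : T ⟶ V) (s : S (EtCoh.const X (ZMod n)) V) (a : ZMod n) :
    val ((EtCoh.const X (ZMod n)).obj.map w.op s : S (EtCoh.const X (ZMod n)) T) a =
      w.left.base ⁻¹' val s a := by
  have hsub : ∀ b, val ((EtCoh.const X (ZMod n)).obj.map w.op s : S (EtCoh.const X (ZMod n)) T) b ⊆
      w.left.base ⁻¹' val s b := by
    rintro b t ⟨Y, f, ⟨y, rfl⟩, hf⟩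
    exact ⟨Y, f ≫ w, ⟨y, rfl⟩, (Restrict.map_comp_apply _ w.op f.op s).trans hf⟩
  refine Set.Subset.antisymm (hsub a) fun t ht => ?_
  obtain ⟨b, hb⟩ := exists_mem_val ((EtCoh.const X (ZMod n)).obj.map w.op s : S (EtCoh.const X (ZMod n)) T) t
  rwa [val_unique s ht (hsub b hb)]

lemma val_zero (V : X.Etale) : val (0 : S (EtCoh.const X (ZMod n)) V) 0 = Set.univ :=
  Set.eq_univ_of_forall fun v => ⟨V, 𝟙 V, ⟨v, rfl⟩, (map_zero _).trans (map_zero _).symm⟩

/-- The indicator of a clopen subset. -/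
theorem exists_indicator {n : ℕ} [Fact (1 < n)] {E : Set V.left} (hE : IsClopen E) :
    ∃ s : S (EtCoh.const X (ZMod n)) V, val s 1 = E ∧ val s 0 = Eᶜ := by
  classical
  let P : Set V.left → ZMod n → Set V.left := fun E a => if a = 0 then Eᶜ else if a = 1 then E else ∅
  have hP : ∀ a, IsOpen (P E a) := fun a => by
    dsimp only [P]
    split_ifs
    · exact hE.compl.isOpen
    · exact hE.isOpen
    · exact isOpen_empty
  obtain ⟨s, hs⟩ := exists_section (V := V) (fun a => ⟨P E a, hP a⟩)
    (fun a b v ha hb => by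
      change v ∈ P E a at ha
      change v ∈ P E b at hb
      dsimp only [P] at ha hb
      split_ifs at ha hb <;> simp_all)
    (fun v => by
      by_cases hv : v ∈ E
      · refine ⟨1, ?_⟩
        change v ∈ P E 1
        dsimp only [P]
        rwa [if_neg one_ne_zero, if_pos rfl]
      · refine ⟨0, ?_⟩
        change v ∈ P E 0
        dsimp only [P]
        rwa [if_pos rfl])
  refine ⟨s, ?_, ?_⟩
  · rw [hs]
    change P E 1 = E
    dsimp only [P]
    rw [if_neg one_ne_zero, if_pos rfl]
  · rw [hs]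
    change P E 0 = Eᶜ
    dsimp only [P]
    rw [if_pos rfl]

variable {U : Scheme.{u}} (j : U ⟶ X) [IsOpenImmersion j]

/-- Nonempty clopen subsets of etale schemes meet `U`. -/
def Meets : Prop :=
  ∀ (V : X.Etale) (D : Set V.left), IsClopen D → D ∩ V.hom.base ⁻¹' Set.range j.base = ∅ → D = ∅

/-- Clopen subsets over `U` extend. -/
def Extends : Prop :=
  ∀ (V : X.Etale) (C : Set V.left), C ⊆ V.hom.base ⁻¹' Set.range j.base → IsOpen C →
    IsOpen (V.hom.base ⁻¹' Set.range j.base \ C) →
    ∃ D : Set V.left, IsClopen D ∧ D ∩ V.hom.base ⁻¹' Set.range j.base = C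

lemma cutι_left (V : X.Etale) : (cutι j V).left = pullback.fst V.hom j := by
  simp [cutι, Lib.EtJ.Basic.compEtaleAdj, MorphismProperty.Over.mapPullbackAdj]
  try rfl

lemma range_cutι (V : X.Etale) : Set.range (cutι j V).left.base = V.hom.base ⁻¹' Set.range j.base := by
  rw [cutι_left]
  exact Scheme.Pullback.range_fst V.hom j

lemma meets_of_depth {n : ℕ} (hn : 1 < n) (h : EtDepth.DepthGE j (EtCoh.const X (ZMod n)) 1) :
    Meets j := by
  intro V D hD hDA
  haveI : Fact (1 < n) := ⟨hn⟩
  obtain ⟨s, hs1, hs0⟩ := exists_indicator (n := n) hD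
  have h0 : s = 0 := by
    refine (depthGE_one_iff j _).1 h V s fun T w hT => eq_of_val fun a => ?_
    intro t ht
    rw [val_map] at ht
    have hnot : w.left.base t ∈ val s 0 := by
      rw [hs0]
      exact fun hD' => Set.eq_empty_iff_forall_notMem.1 hDA _
        ⟨hD', hT ⟨t, congrArg (fun k => k.base t) (MorphismProperty.Over.w w).symm⟩⟩
    obtain rfl : a = 0 := val_unique s ht hnot
    rw [val_zero]
    trivial
  refine Set.eq_empty_iff_forall_notMem.2 fun v hv => one_ne_zero (α := ZMod n)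
    (val_unique s (hs1.symm ▸ hv) ?_)
  rw [h0, val_zero]
  trivial

lemma depth_one_of_meets (hM : Meets j) (n : ℕ) : EtDepth.DepthGE j (EtCoh.const X (ZMod n)) 1 := by
  refine (depthGE_one_iff j _).2 fun V s hs => eq_of_val fun a v hv => ?_
  rcases eq_or_ne a 0 with rfl | ha
  · rw [val_zero]; trivial
  · exfalso
    refine Set.eq_empty_iff_forall_notMem.1 (hM V (val s a) (isClopen_val s a) ?_) v hv
    refine Set.eq_empty_iff_forall_notMem.2 fun w ⟨hw, hwA⟩ => ?_
    rw [← range_cutι] at hwA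
    obtain ⟨c, rfl⟩ := hwA
    have hc : c ∈ val ((EtCoh.const X (ZMod n)).obj.map (cutι j V).op s : S _ (cut j V)) a := by
      rw [val_map]; exact hw
    rw [(sup_iff j s).1 hs] at hc
    exact ha (val_unique _ hc (by rw [val_zero]; trivial))

lemma extends_of_depth {n : ℕ} (hn : 1 < n) (h : EtDepth.DepthGE j (EtCoh.const X (ZMod n)) 2) :
    Extends j := by
  intro V C hC hCo hCc
  haveI : Fact (1 < n) := ⟨hn⟩
  let c : (cut j V).left → V.left := fun x => (cutι j V).left.base x
  have hcont : Continuous c := (cutι j V).left.continuous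
  have hE : IsClopen (c ⁻¹' C) := by
    refine ⟨⟨?_⟩, hCo.preimage hcont⟩
    have e : (c ⁻¹' C)ᶜ = c ⁻¹' (V.hom.base ⁻¹' Set.range j.base \ C) := by
      ext v
      have hvA : c v ∈ V.hom.base ⁻¹' Set.range j.base := (range_cutι j V).subset ⟨v, rfl⟩
      simp only [Set.mem_compl_iff, Set.mem_preimage, Set.mem_sdiff]
      exact ⟨fun h => ⟨hvA, h⟩, fun h => h.2⟩
    rw [e]
    exact hCc.preimage hcont
  obtain ⟨t, ht, -⟩ := exists_indicator (V := cut j V) (n := n) hE
  obtain ⟨s, rfl⟩ := ((depthGE_two_iff j _).1 h).2 V t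
  refine ⟨val s 1, isClopen_val s 1, ?_⟩
  have h1 : c ⁻¹' val s 1 = c ⁻¹' C := by
    rw [← ht, val_map]
  rw [← range_cutι, ← Set.image_preimage_eq_inter_range]
  change c '' (c ⁻¹' val s 1) = C
  rw [h1, Set.image_preimage_eq_inter_range]
  exact Set.inter_eq_left.2 (hC.trans (range_cutι j V).symm.subset)

lemma depth_two_of_extends (hM : Meets j) (hE : Extends j) (n : ℕ) [NeZero n] :
    EtDepth.DepthGE j (EtCoh.const X (ZMod n)) 2 := by
  refine (depthGE_two_iff j _).2 ⟨(depthGE_one_iff j _).1 (depth_one_of_meets j hM n), fun V t => ?_⟩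
  let c : (cut j V).left → V.left := fun x => (cutι j V).left.base x
  have hemb : Topology.IsOpenEmbedding c := by
    have : Topology.IsOpenEmbedding (pullback.fst V.hom j).base := (pullback.fst V.hom j).isOpenEmbedding
    change Topology.IsOpenEmbedding (cutι j V).left.base
    rw [cutι_left]; exact this
  have hr : Set.range c = V.hom.base ⁻¹' Set.range j.base := range_cutι j V
  have key : ∀ a, ∃ D : Set V.left, IsClopen D ∧ D ∩ Set.range c = c '' val t a := fun a => by
    rw [hr]
    refine hE V (c '' val t a) ?_ (hemb.isOpenMap _ (isOpen_val t a)) ?_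
    · rw [← hr]; exact Set.image_subset_range _ _
    · rw [← hr, ← Set.image_univ, ← Set.image_sdiff hemb.injective, ← Set.compl_eq_univ_sdiff]
      exact hemb.isOpenMap _ (isClopen_val t a).compl.isOpen
  choose D hD hDc using key
  have hdisj : ∀ a b v, v ∈ D a → v ∈ D b → a = b := by
    intro a b v ha hb
    by_contra hne
    refine Set.eq_empty_iff_forall_notMem.1 (hM V (D a ∩ D b) ((hD a).inter (hD b)) ?_) v ⟨ha, hb⟩
    rw [← hr]
    refine Set.eq_empty_iff_forall_notMem.2 ?_
    rintro _ ⟨⟨h1, h2⟩, x, rfl⟩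
    have e1 : c x ∈ c '' val t a := hDc a ▸ ⟨h1, x, rfl⟩
    have e2 : c x ∈ c '' val t b := hDc b ▸ ⟨h2, x, rfl⟩
    exact hne (val_unique t (hemb.injective.mem_set_image.1 e1) (hemb.injective.mem_set_image.1 e2))
  have hclosed : IsClosed (⋃ a, D a) := isClosed_iUnion_of_finite fun a => (hD a).1
  have hcov : ∀ v, ∃ a, v ∈ D a := by
    intro v
    by_contra hv
    refine Set.eq_empty_iff_forall_notMem.1
      (hM V (⋃ a, D a)ᶜ ⟨⟨(isOpen_iUnion fun a => (hD a).isOpen).isClosed_compl.isOpen_compl⟩,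
        hclosed.isOpen_compl⟩ ?_) v (by simpa using hv)
    rw [← hr]
    refine Set.eq_empty_iff_forall_notMem.2 ?_
    rintro _ ⟨h1, x, rfl⟩
    obtain ⟨a, ha⟩ := exists_mem_val t x
    have : c x ∈ D a ∩ Set.range c := hDc a ▸ Set.mem_image_of_mem c ha
    exact h1 (Set.mem_iUnion.2 ⟨a, this.1⟩)
  obtain ⟨s, hs⟩ := exists_section (V := V) (fun a => ⟨D a, (hD a).isOpen⟩) hdisj hcov
  refine ⟨s, eq_of_val fun a x hx => ?_⟩
  rw [val_map, Set.mem_preimage, hs] at hx
  have : c x ∈ c '' val t a := hDc a ▸ ⟨hx, x, rfl⟩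
  exact hemb.injective.mem_set_image.1 this

end Const

end Groth.Agent.H88.DepthTwo
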