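import Groth.Agent.H88.RestrSheafify
import Groth.Agent.H88.Cyclotomic
import Groth.Prelude.Def_EtGm
import Mathlib.CategoryTheory.Sites.LocallyBijective

/-!
`μ_n` is etale locally isomorphic to `ℤ/n`.
-/

universe u

open CategoryTheory CategoryTheory.Limits AlgebraicGeometry Opposite

namespace Groth.Agent.H88.MuLocal

variable {X : Scheme.{u}} {n : ℕ}

/-- The underlying function of a section of `G_m`. -/
noncomputable def val {T : X.Etale} (u : (EtCoh.Gm X).obj.obj (op T)) : Γ(T.left, ⊤) :=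
  (Additive.toMul (ULift.down u : Additive (Γ(T.left, ⊤))ˣ)).val

lemma val_injective {T : X.Etale} : Function.Injective (val : (EtCoh.Gm X).obj.obj (op T) → _) :=
  fun _ _ h => ULift.ext _ _ (Additive.toMul.injective (Units.ext h))

lemma val_nsmul {T : X.Etale} (u : (EtCoh.Gm X).obj.obj (op T)) (k : ℕ) : val (k • u) = val u ^ k :=
  Units.val_pow_eq_pow_val _ k

lemma val_zero {T : X.Etale} : val (0 : (EtCoh.Gm X).obj.obj (op T)) = 1 := rfl

lemma val_map {T T' : X.Etale} (w : T' ⟶ T) (u : (EtCoh.Gm X).obj.obj (op T)) :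
    val ((EtCoh.Gm X).obj.map w.op u) = w.left.appTop (val u) := rfl

lemma powMap_app (T : X.Etale) (u : (EtCoh.Gm X).obj.obj (op T)) :
    (EtCoh.powMap X n).hom.app (op T) u = n • u := by
  exact congrArg (fun m => m.hom u)
    (map_nsmul ((sheafToPresheaf X.smallEtaleTopology AddCommGrpCat.{u + 1} ⋙
      (evaluation _ _).obj (op T)).mapAddHom (X := EtCoh.Gm X) (Y := EtCoh.Gm X)) n (𝟙 _))

lemma val_muι_pow (T : X.Etale) (m : (EtCoh.mu X n).obj.obj (op T)) :
    val ((EtCoh.muι X n).hom.app (op T) m) ^ n = 1 := by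
  rw [← val_nsmul, ← powMap_app]
  exact (congrArg val (congrArg (fun f => (f.hom.app (op T)).hom m) (kernel.condition (EtCoh.powMap X n)))).trans val_zero

lemma muι_injective (T : X.Etale) : Function.Injective ((EtCoh.muι X n).hom.app (op T)) := by
  intro a b h
  obtain ⟨φ, rfl⟩ := (FreeSheaf.ev_bijective T _).2 a
  obtain ⟨ψ, rfl⟩ := (FreeSheaf.ev_bijective T _).2 b
  rw [← FreeSheaf.ev_comp, ← FreeSheaf.ev_comp] at h
  exact congrArg FreeSheaf.ev ((cancel_mono (kernel.ι (EtCoh.powMap X n))).1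
    ((FreeSheaf.ev_bijective T _).1 h))

lemma exists_mu (T : X.Etale) (r : Γ(T.left, ⊤)) (hn : 0 < n) (hr : r ^ n = 1) :
    ∃ m : (EtCoh.mu X n).obj.obj (op T), val ((EtCoh.muι X n).hom.app (op T) m) = r := by
  let u : (EtCoh.Gm X).obj.obj (op T) :=
    ULift.up (Additive.ofMul (Units.ofPowEqOne r n hr hn.ne'))
  obtain ⟨φ, hφ⟩ := (FreeSheaf.ev_bijective T (EtCoh.Gm X)).2 u
  have h0 : φ ≫ EtCoh.powMap X n = 0 := by
    refine (FreeSheaf.ev_bijective T _).1 ?_
    rw [FreeSheaf.ev_comp, powMap_app, hφ]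
    have : FreeSheaf.ev (0 : FreeSheaf.free T ⟶ EtCoh.Gm X) = 0 := by
      rw [← comp_zero (f := 𝟙 (FreeSheaf.free T)), FreeSheaf.ev_comp]
      rfl
    rw [this]
    apply val_injective
    rw [val_nsmul, val_zero]
    exact hr
  refine ⟨FreeSheaf.ev (kernel.lift _ φ h0), ?_⟩
  rw [← FreeSheaf.ev_comp]
  refine (congrArg (fun t => val (FreeSheaf.ev t)) (kernel.lift_ι _ φ h0)).trans ?_
  rw [hφ]
  rfl

lemma eq_pow_of_pow_eq_one {L : Type*} [CommRing L] [IsLocalRing L] {ζ u : L}
    (h : Cyclotomic.IsStrongPrimitiveRoot ζ n) (hn : 0 < n) (hnu : IsUnit (n : L)) (hu : u ^ n = 1) :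
    ∃ i, i < n ∧ u = ζ ^ i := by
  let κ := IsLocalRing.ResidueField L
  let q := IsLocalRing.residue L
  have hne : ∀ {a : L}, IsUnit a → q a ≠ 0 := fun ha => (ha.map q).ne_zero
  have hprim : IsPrimitiveRoot (q ζ) n := by
    refine IsPrimitiveRoot.mk_of_lt _ hn (by rw [← map_pow, h.1, map_one]) fun l hl hln e => ?_
    exact hne (h.2 l hl hln) (by rw [map_sub, map_pow, e, map_one, sub_self])
  haveI : NeZero n := ⟨hn.ne'⟩
  obtain ⟨i, hi, hiu⟩ := hprim.eq_pow_of_pow_eq_one (show q u ^ n = 1 by rw [← map_pow, hu, map_one])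
  refine ⟨i, hi, ?_⟩
  set v := ζ ^ i
  have hv : v ^ n = 1 := by rw [← pow_mul, mul_comm, pow_mul, h.1, one_pow]
  have hg : (∑ k ∈ Finset.range n, u ^ k * v ^ (n - 1 - k)) * (u - v) = 0 := by
    rw [geom_sum₂_mul, hu, hv, sub_self]
  refine sub_eq_zero.1 ((IsUnit.mul_right_eq_zero ?_).1 hg)
  rw [← IsLocalRing.residue_ne_zero_iff_isUnit]
  change q _ ≠ 0
  have hqv : q v = q u := by rw [map_pow]; exact hiu
  have hterm : ∀ k ∈ Finset.range n, q (u ^ k * v ^ (n - 1 - k)) = q u ^ (n - 1) := fun k hk => by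
    rw [map_mul, map_pow, map_pow, hqv, ← pow_add]
    congr 1
    have := Finset.mem_range.1 hk
    omega
  rw [map_sum, Finset.sum_congr rfl hterm, Finset.sum_const, Finset.card_range, nsmul_eq_mul]
  refine mul_ne_zero (by simpa using hne hnu) (pow_ne_zero (n - 1) ?_)
  exact hne (IsUnit.of_pow_eq_one hu hn.ne')

lemma mem_of_pointwise {W : Scheme.{u}} {T : W.Etale} (S : Sieve T)
    (h : ∀ t : T.left, ∃ (Z : W.Etale) (f : Z ⟶ T) (z : Z.left), S f ∧ Etale f.left ∧ f.left z = t) :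
    S ∈ W.smallEtaleTopology T := by
  rw [show W.smallEtaleTopology = (W.smallPretopology (P := EtCoh.etaleMP) (Q := EtCoh.etaleMP)).toGrothendieck
    from Scheme.smallGrothendieckTopology_eq_toGrothendieck_smallPretopology W le_rfl]
  refine (Scheme.mem_toGrothendieck_smallPretopology T S).2 fun t => ?_
  obtain ⟨Z, f, z, hS, he, hz⟩ := h t
  exact ⟨Z, f, z, hS, he, hz⟩


/-- The map `ℤ/n → A` of an element killed by `n`. -/
noncomputable def ofTorsion {A : AddCommGrpCat.{u + 1}} (a : A) (h : n • a = 0) :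
    AddCommGrpCat.of (ULift.{u + 1} (ZMod n)) ⟶ A :=
  AddCommGrpCat.ofHom ((ZMod.lift n ⟨zmultiplesHom A a, by
    rw [zmultiplesHom_apply, natCast_zsmul, h]⟩).comp AddEquiv.ulift.toAddMonoidHom)

lemma ofTorsion_apply {A : AddCommGrpCat.{u + 1}} (a : A) (h : n • a = 0) (k : ℤ) :
    ofTorsion a h (ULift.up (k : ZMod n)) = k • a := by
  change ZMod.lift n ⟨zmultiplesHom A a, (by rw [zmultiplesHom_apply, natCast_zsmul, h])⟩ ((k : ZMod n)) = _
  rw [ZMod.lift_coe, zmultiplesHom_apply]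

lemma map_torsion {W : X.Etale} {T : X.Etale} (w : T ⟶ W) {z : (EtCoh.mu X n).obj.obj (op W)} (hz : n • z = 0) :
    n • (EtCoh.mu X n).obj.map w.op z = 0 :=
  (map_nsmul ((EtCoh.mu X n).obj.map w.op).hom n z).symm.trans ((congrArg _ hz).trans (map_zero _))

/-- The morphism of presheaves `ℤ/n → μ_n`, `i ↦ ζ^i`. -/
noncomputable def toMu (W : X.Etale) (z : (EtCoh.mu X n).obj.obj (op W)) (hz : n • z = 0) :
    (Functor.const W.left.Etaleᵒᵖ).obj (AddCommGrpCat.of (ULift.{u + 1} (ZMod n))) ⟶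
      ((EtShriek.restrAlong W.hom).obj (EtCoh.mu X n)).obj where
  app T := ofTorsion ((EtCoh.mu X n).obj.map
    ((MorphismProperty.Over.homMk T.unop.hom rfl : (EtShriek.compEtale W.hom).obj T.unop ⟶ W)).op z)
    (map_torsion _ hz)
  naturality {T T'} f := by
    apply AddCommGrpCat.hom_ext
    refine DFunLike.ext _ _ fun i => ?_
    obtain ⟨i⟩ := i
    obtain ⟨k, rfl⟩ := ZMod.intCast_surjective i
    refine Eq.trans (ofTorsion_apply _ (map_torsion _ hz) k) (Eq.trans ?_
      (congrArg ((EtCoh.mu X n).obj.map ((EtShriek.compEtale W.hom).op.map f)) (ofTorsion_apply _ (map_torsion _ hz) k).symm))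
    refine Eq.trans (congrArg (k • ·) ?_)
      (map_zsmul ((EtCoh.mu X n).obj.map ((EtShriek.compEtale W.hom).op.map f)).hom k _).symm
    refine Eq.trans ?_ (Restrict.map_comp_apply (EtCoh.mu X n).obj _ _ z)
    exact congrArg (fun w => (EtCoh.mu X n).obj.map w z) (Quiver.Hom.unop_inj
      (MorphismProperty.Over.Hom.ext (MorphismProperty.Over.w f.unop).symm))

lemma val_toMu (W : X.Etale) (z : (EtCoh.mu X n).obj.obj (op W)) (hz : n • z = 0)
    (T : W.left.Etale) (k : ℕ) :
    val ((EtCoh.muι X n).hom.app (op ((EtShriek.compEtale W.hom).obj T))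
      ((toMu W z hz).app (op T) (ULift.up (k : ZMod n)))) =
      T.hom.appTop (val ((EtCoh.muι X n).hom.app (op W) z)) ^ k := by
  let w : (EtShriek.compEtale W.hom).obj T ⟶ W := MorphismProperty.Over.homMk T.hom rfl
  have e : (toMu W z hz).app (op T) (ULift.up (k : ZMod n)) = k • (EtCoh.mu X n).obj.map w.op z := by
    have h0 := ofTorsion_apply ((EtCoh.mu X n).obj.map w.op z)
      (map_torsion w hz) (k : ℤ)
    rw [Int.cast_natCast] at h0
    exact h0.trans (natCast_zsmul _ k)
  rw [e]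
  refine (congrArg val (map_nsmul ((EtCoh.muι X n).hom.app _).hom k ((EtCoh.mu X n).obj.map w.op z))).trans ?_
  refine (val_nsmul _ k).trans (congrArg (· ^ k) ?_)
  exact (congrArg val (NatTrans.naturality_apply (EtCoh.muι X n).hom w.op z)).trans (val_map w _)

theorem exists_iso_const (hn : 0 < n) (hu : IsUnit (n : Γ(X, ⊤))) (W : X.Etale) (ζ : Γ(W.left, ⊤))
    (hζ : Cyclotomic.IsStrongPrimitiveRoot ζ n) :
    Nonempty (EtCoh.const W.left (ZMod n) ≅ (EtShriek.restrAlong W.hom).obj (EtCoh.mu X n)) := by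
  haveI : NeZero n := ⟨hn.ne'⟩
  obtain ⟨z, hz⟩ := exists_mu W ζ hn hζ.1
  have hnz : n • z = 0 := by
    apply muι_injective W
    rw [map_nsmul, map_zero]
    apply val_injective
    rw [val_nsmul, hz, hζ.1, val_zero]
  set ψ := toMu W z hnz
  haveI : Presheaf.IsLocallyInjective W.left.smallEtaleTopology ψ := by
    constructor
    intro T a b hab
    obtain ⟨T⟩ := T
    obtain ⟨a⟩ := a
    obtain ⟨b⟩ := b
    obtain ⟨i, hi, rfl⟩ : ∃ i < n, (i : ZMod n) = a := ⟨a.val, a.val_lt, ZMod.natCast_zmod_val a⟩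
    obtain ⟨k, hk, rfl⟩ : ∃ k < n, (k : ZMod n) = b := ⟨b.val, b.val_lt, ZMod.natCast_zmod_val b⟩
    by_cases hik : i = k
    · subst hik
      refine W.left.smallEtaleTopology.superset_covering (fun Y f _ => ?_) (W.left.smallEtaleTopology.top_mem T)
      exact rfl
    refine mem_of_pointwise _ fun t => False.elim ?_
    have h := congrArg (fun m => val ((EtCoh.muι X n).hom.app (op ((EtShriek.compEtale W.hom).obj T)) m)) hab
    simp only [ψ, val_toMu, hz] at h
    have hζT := hζ.map T.hom.appTop.hom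
    set ξ := T.hom.appTop ζ
    wlog hlt : i < k generalizing i k
    · exact this k hk i hi hab.symm (Ne.symm hik) h.symm (by omega)
    have h1 : ξ ^ i * (ξ ^ (k - i) - 1) = 0 := by
      rw [mul_sub, ← pow_add, mul_one, Nat.add_sub_cancel' hlt.le, h, sub_self]
    have hu1 : IsUnit (ξ ^ i * (ξ ^ (k - i) - 1)) :=
      ((IsUnit.of_pow_eq_one hζT.1 hn.ne').pow i).mul (hζT.2 (k - i) (by omega) (by omega))
    rw [h1] at hu1
    exact not_isUnit_zero (M₀ := T.left.presheaf.stalk t)
      (by simpa using hu1.map (T.left.presheaf.germ ⊤ t trivial).hom)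
  haveI : Presheaf.IsLocallySurjective W.left.smallEtaleTopology ψ := by
    constructor
    intro T s
    refine mem_of_pointwise _ fun t => ?_
    set r : Γ(T.left, ⊤) := val ((EtCoh.muι X n).hom.app (op ((EtShriek.compEtale W.hom).obj T)) s)
    have hr : r ^ n = 1 := val_muι_pow _ s
    set g := (T.left.presheaf.germ ⊤ t trivial).hom
    have hnu : IsUnit (n : T.left.presheaf.stalk t) := by
      simpa using hu.map (g.comp (((EtShriek.compEtale W.hom).obj T).hom.appTop.hom))
    obtain ⟨i, hi, he⟩ := eq_pow_of_pow_eq_one ((hζ.map T.hom.appTop.hom).map g) hn hnu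
      (show g r ^ n = 1 by rw [← map_pow, hr, map_one])
    rw [← map_pow] at he
    obtain ⟨O', hO, o₁, o₂, ho⟩ := T.left.presheaf.germ_eq t (U := ⊤) (V := ⊤) trivial trivial _ _ he
    let O : T.left.Opens := O'
    let Z : W.left.Etale := MorphismProperty.Over.mk ⊤ (O.ι ≫ T.hom)
      (show Etale (O.ι ≫ T.hom) from
        haveI : Etale T.hom := T.prop
        inferInstance)
    let f : Z ⟶ T := MorphismProperty.Over.homMk O.ι rfl
    refine ⟨Z, f, ⟨t, hO⟩, ⟨ULift.up (i : ZMod n), ?_⟩, show Etale O.ι from inferInstance, rfl⟩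
    apply muι_injective
    apply val_injective
    refine (val_toMu W z hnz Z i).trans ?_
    rw [hz]
    have e2 : val ((EtCoh.muι X n).hom.app (op ((EtShriek.compEtale W.hom).obj Z))
        ((EtCoh.mu X n).obj.map ((EtShriek.compEtale W.hom).map f).op s)) = O.ι.appTop r := by
      exact (congrArg val (NatTrans.naturality_apply (EtCoh.muι X n).hom
        ((EtShriek.compEtale W.hom).map f).op s)).trans (val_map ((EtShriek.compEtale W.hom).map f) _)
    refine Eq.trans ?_ e2.symm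
    change (O.ι ≫ T.hom).appTop ζ ^ i = O.ι.appTop r
    rw [Scheme.Hom.comp_appTop, CommRingCat.comp_apply, ← map_pow, Scheme.Opens.ι_appTop]
    have h3 := congrArg (T.left.presheaf.map (homOfLE (show O.ι ''ᵁ ⊤ ≤ O' by simp [O])).op) ho
    rw [← ConcreteCategory.comp_apply, ← ConcreteCategory.comp_apply, ← Functor.map_comp,
      ← Functor.map_comp] at h3
    exact h3.symm
  haveI : IsIso ((sheafificationAdjunction W.left.smallEtaleTopology AddCommGrpCat.{u + 1}).counit.app
      ((EtShriek.restrAlong W.hom).obj (EtCoh.mu X n))) := inferInstance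
  exact ⟨@asIso _ _ _ _ ((presheafToSheaf W.left.smallEtaleTopology AddCommGrpCat.{u + 1}).map ψ)
      ((GrothendieckTopology.W_iff _ ψ).1 (GrothendieckTopology.W_of_isLocallyBijective _ ψ)) ≪≫
    asIso ((sheafificationAdjunction W.left.smallEtaleTopology AddCommGrpCat.{u + 1}).counit.app
      ((EtShriek.restrAlong W.hom).obj (EtCoh.mu X n)))⟩

end Groth.Agent.H88.MuLocal
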