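import Groth.Agent.H88.Semipurity

/-!
Enlarging the support by a closed subset along which cohomology with supports vanishes.
-/

universe u

open CategoryTheory CategoryTheory.Limits AlgebraicGeometry Opposite

namespace Groth.Agent.H88.Excision

variable {X : Scheme.{u}}

/-- A section has support off the image of `j`. -/
def Killed {U : Scheme.{u}} (j : U ⟶ X) {F : EtCoh.Ab X} {V : X.Etale} (s : F.obj.obj (op V)) : Prop :=
  ∀ (T : X.Etale) (w : T ⟶ V), Set.range T.hom.base ⊆ Set.range j.base → F.obj.map w.op s = 0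

variable {U : Scheme.{u}} (j : U ⟶ X) [IsOpenImmersion j]

lemma killed_ι {F : EtCoh.Ab X} {V : X.Etale} (t : (kernel (EtDual.unitApp j F)).obj.obj (op V)) :
    Killed j ((kernel.ι (EtDual.unitApp j F)).hom.app (op V) t) :=
  fun T w h => (Restrict.comp_unitApp_eq_zero_iff j _).1 (kernel.condition _) V t T w h

lemma ι_injective {F : EtCoh.Ab X} (V : X.Etale) :
    Function.Injective ((kernel.ι (EtDual.unitApp j F)).hom.app (op V)) := by
  intro a b h
  obtain ⟨φ, rfl⟩ := (FreeSheaf.ev_bijective V _).2 a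
  obtain ⟨ψ, rfl⟩ := (FreeSheaf.ev_bijective V _).2 b
  rw [← FreeSheaf.ev_comp, ← FreeSheaf.ev_comp] at h
  exact congrArg FreeSheaf.ev ((cancel_mono (kernel.ι (EtDual.unitApp j F))).1
    ((FreeSheaf.ev_bijective V _).1 h))

lemma unit_app_eq_zero {F : EtCoh.Ab X} {V : X.Etale} (s : F.obj.obj (op V)) (hs : Killed j s) :
    (EtDual.unitApp j F).hom.app (op V) s = 0 := by
  have h := Adjunction.unit_leftAdjointUniq_hom_app (EtCoh.pullPushAdj j)
    (Lib.EtJ.Basic.restrPushAdj j) F
  let e := (EtCoh.push j).mapIso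
    ((Adjunction.leftAdjointUniq (EtCoh.pullPushAdj j) (Lib.EtJ.Basic.restrPushAdj j)).app F)
  have h1 : e.hom.hom.app (op V) ((EtDual.unitApp j F).hom.app (op V) s) = 0 := by
    refine (congrArg (fun m => (m.hom.app (op V)).hom s) h).trans ?_
    exact hs _ ((Lib.EtJ.Basic.compEtaleAdj j).counit.app V) (Restrict.range_bc_obj j V)
  have h2 := congrArg (fun m => (m.hom.app (op V)).hom ((EtDual.unitApp j F).hom.app (op V) s)) e.hom_inv_id
  exact h2.symm.trans ((congrArg (e.inv.hom.app (op V)) h1).trans (map_zero _))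

lemma exists_lift {F : EtCoh.Ab X} {V : X.Etale} (s : F.obj.obj (op V)) (hs : Killed j s) :
    ∃ t, (kernel.ι (EtDual.unitApp j F)).hom.app (op V) t = s := by
  obtain ⟨φ, rfl⟩ := (FreeSheaf.ev_bijective V F).2 s
  have h0 : φ ≫ EtDual.unitApp j F = 0 := by
    refine (FreeSheaf.ev_bijective V _).1 ?_
    rw [FreeSheaf.ev_comp, unit_app_eq_zero j _ hs,
      ← comp_zero (f := 𝟙 (FreeSheaf.free V)), FreeSheaf.ev_comp]
    rfl
  exact ⟨FreeSheaf.ev (kernel.lift _ φ h0), by rw [← FreeSheaf.ev_comp, kernel.lift_ι]⟩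

variable {X' : Scheme.{u}} (k' : X' ⟶ X) [IsOpenImmersion k'] (j' : U ⟶ X') [IsOpenImmersion j']
  (hfac : j' ≫ k' = j)

include hfac in
lemma range_subset : Set.range j.base ⊆ Set.range k'.base := by
  subst hfac
  rintro _ ⟨y, rfl⟩
  exact ⟨j'.base y, rfl⟩

/-- The inclusion of supports. -/
noncomputable def incl : EtDual.secSupp k' ⟶ EtDual.secSupp j where
  app F := kernel.lift _ (kernel.ι (EtDual.unitApp k' F)) (by
    rw [Restrict.comp_unitApp_eq_zero_iff]
    exact fun V t T w h => killed_ι k' t T w (h.trans (range_subset j k' j' hfac)))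
  naturality F G f := by
    rw [← cancel_mono (kernel.ι (EtDual.unitApp j G)), Category.assoc, Category.assoc]
    erw [kernel.lift_ι, kernel.lift_ι, kernel.lift_ι]
    rw [← Category.assoc, kernel.lift_ι]

/-- Restriction to the open subscheme. -/
noncomputable def res : EtDual.secSupp j ⋙ EtShriek.restrAlong k' ⟶
    EtShriek.restrAlong k' ⋙ EtDual.secSupp j' where
  app F := kernel.lift _ ((EtShriek.restrAlong k').map (kernel.ι (EtDual.unitApp j F))) (by
    rw [Restrict.comp_unitApp_eq_zero_iff]
    intro V s T w hT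
    refine killed_ι j (V := (EtShriek.compEtale k').obj V) s _ ((EtShriek.compEtale k').map w) ?_
    subst hfac
    rintro _ ⟨y, rfl⟩
    obtain ⟨z, hz⟩ := hT ⟨y, rfl⟩
    exact ⟨z, congrArg k'.base hz⟩)
  naturality F G f := by
    rw [← cancel_mono (kernel.ι (EtDual.unitApp j' ((EtShriek.restrAlong k').obj G)))]
    dsimp only [Functor.comp_obj, Functor.comp_map]
    rw [Category.assoc, Category.assoc, kernel.lift_ι]
    erw [kernel.lift_ι]
    rw [← Category.assoc, kernel.lift_ι, ← Functor.map_comp, ← Functor.map_comp]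
    exact congrArg (EtShriek.restrAlong k').map (kernel.lift_ι _ _ _)

/-- The map `top X' → top X`. -/
noncomputable def topHom : (EtShriek.compEtale k').obj (EtCoh.top X') ⟶ EtCoh.top X :=
  MorphismProperty.Over.homMk k' (by
    change k' ≫ 𝟙 X = 𝟙 X' ≫ k'
    simp)

instance mono_topHom : Mono (topHom k') := by
  refine (Scheme.Etale.forget X).mono_of_mono_map ?_
  refine (Over.forget X).mono_of_mono_map ?_
  exact inferInstanceAs (Mono k')

/-- Global sections of `res`. -/
noncomputable def resΓ : EtDual.gammaSupp j ⟶ EtShriek.restrAlong k' ⋙ EtDual.gammaSupp j' where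
  app F := ((EtDual.secSupp j).obj F).obj.map (topHom k').op ≫ ((res j k' j' hfac).app F).hom.app (op (EtCoh.top X'))
  naturality F G f := by
    have h1 := ((EtDual.secSupp j).map f).hom.naturality (topHom k').op
    have h2 := congrArg (fun m => m.hom.app (op (EtCoh.top X'))) ((res j k' j' hfac).naturality f)
    refine ((Category.assoc _ _ _).symm.trans (congrArg (· ≫ _) h1.symm)).trans ?_
    exact (Category.assoc _ _ _).trans ((congrArg (((EtDual.secSupp j).obj F).obj.map (topHom k').op ≫ ·) h2).trans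
      (Category.assoc _ _ _).symm)

/-- Global sections of `incl`. -/
noncomputable def inclΓ : EtDual.gammaSupp k' ⟶ EtDual.gammaSupp j :=
  Functor.whiskerRight (incl j k' j' hfac) _

lemma ι_inclΓ (F : EtCoh.Ab X) (t : (kernel (EtDual.unitApp k' F)).obj.obj (op (EtCoh.top X))) :
    (kernel.ι (EtDual.unitApp j F)).hom.app (op (EtCoh.top X)) ((inclΓ j k' j' hfac).app F t) =
      (kernel.ι (EtDual.unitApp k' F)).hom.app (op (EtCoh.top X)) t :=
  congrArg (fun m => (m.hom.app (op (EtCoh.top X))).hom t) (kernel.lift_ι (EtDual.unitApp j F) _ _)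

lemma ι_resΓ (F : EtCoh.Ab X) (t : (kernel (EtDual.unitApp j F)).obj.obj (op (EtCoh.top X))) :
    (kernel.ι (EtDual.unitApp j' ((EtShriek.restrAlong k').obj F))).hom.app (op (EtCoh.top X'))
        ((resΓ j k' j' hfac).app F t) =
      F.obj.map (topHom k').op ((kernel.ι (EtDual.unitApp j F)).hom.app (op (EtCoh.top X)) t) := by
  refine Eq.trans ?_ (NatTrans.naturality_apply (kernel.ι (EtDual.unitApp j F)).hom (topHom k').op t)
  exact congrArg (fun m : (EtShriek.restrAlong k').obj ((EtDual.secSupp j).obj F) ⟶ (EtShriek.restrAlong k').obj F =>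
      (m.hom.app (op (EtCoh.top X'))).hom (((EtDual.secSupp j).obj F).obj.map (topHom k').op t))
    (kernel.lift_ι (EtDual.unitApp j' ((EtShriek.restrAlong k').obj F)) _ _)

lemma inclΓ_resΓ (F : EtCoh.Ab X) : (inclΓ j k' j' hfac).app F ≫ (resΓ j k' j' hfac).app F = 0 := by
  refine AddCommGrpCat.hom_ext (DFunLike.ext _ _ fun t => ?_)
  apply ι_injective j'
  refine ((ι_resΓ j k' j' hfac F _).trans (congrArg _ (ι_inclΓ j k' j' hfac F t))).trans
    (Eq.trans ?_ (map_zero _).symm)
  refine killed_ι k' t _ (topHom k') ?_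
  rintro _ ⟨y, rfl⟩
  exact ⟨y, rfl⟩

lemma shortExact (I : EtCoh.Ab X) [Injective I] :
    (ShortComplex.mk _ _ (inclΓ_resΓ j k' j' hfac I)).ShortExact := by
  refine { exact := ?_, mono_f := ?_, epi_g := ?_ }
  · rw [ShortComplex.ab_exact_iff]
    intro t ht
    have h0 := (ι_resΓ j k' j' hfac I t).symm.trans ((congrArg _ ht).trans (map_zero _))
    obtain ⟨r, hr⟩ := exists_lift k' ((kernel.ι (EtDual.unitApp j I)).hom.app _ t) (fun T w hT => by
      let l : T.left ⟶ X' := IsOpenImmersion.lift k' T.hom hT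
      let v : T ⟶ (EtShriek.compEtale k').obj (EtCoh.top X') := MorphismProperty.Over.homMk l (by
        change l ≫ 𝟙 X' ≫ k' = T.hom
        rw [Category.id_comp, IsOpenImmersion.lift_fac])
      have hw : w = v ≫ topHom k' := by
        apply MorphismProperty.Over.Hom.ext
        change w.left = l ≫ k'
        rw [IsOpenImmersion.lift_fac]
        exact (Category.comp_id _).symm.trans (MorphismProperty.Over.w w)
      rw [hw]
      exact (Restrict.map_comp_apply I.obj (topHom k').op v.op _).trans
        ((congrArg (I.obj.map v.op) h0).trans (map_zero _)))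
    exact ⟨r, ι_injective j _ ((ι_inclΓ j k' j' hfac I r).trans hr)⟩
  · rw [AddCommGrpCat.mono_iff_injective]
    intro a b h
    apply ι_injective k'
    rw [← ι_inclΓ j k' j' hfac I a, ← ι_inclΓ j k' j' hfac I b]
    exact congrArg _ h
  · rw [AddCommGrpCat.epi_iff_surjective]
    intro c
    obtain ⟨s, hs⟩ := FreeSheaf.map_surjective_of_injective (topHom k') I
      ((kernel.ι (EtDual.unitApp j' ((EtShriek.restrAlong k').obj I))).hom.app _ c)
    obtain ⟨t, ht⟩ := exists_lift j (V := EtCoh.top X) s (fun T w hT => by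
      let l : T.left ⟶ X' := IsOpenImmersion.lift k' T.hom (hT.trans (range_subset j k' j' hfac))
      have hl : l ≫ k' = T.hom := IsOpenImmersion.lift_fac _ _ _
      let T' : X'.Etale := MorphismProperty.Over.mk ⊤ l
        (EtCoh.etaleMP.of_postcomp (W' := EtCoh.etaleMP) l k'
          (show Etale k' from inferInstance) (hl ▸ T.prop))
      let v : T ⟶ (EtShriek.compEtale k').obj T' := MorphismProperty.Over.homMk (𝟙 _)
        ((Category.id_comp _).trans hl)
      let w' : T' ⟶ EtCoh.top X' := MorphismProperty.Over.homMk l (Category.comp_id _)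
      have hw : w = v ≫ (EtShriek.compEtale k').map w' ≫ topHom k' := by
        apply MorphismProperty.Over.Hom.ext
        change w.left = 𝟙 _ ≫ l ≫ k'
        rw [Category.id_comp, hl]
        exact (Category.comp_id _).symm.trans (MorphismProperty.Over.w w)
      have hT' : Set.range T'.hom.base ⊆ Set.range j'.base := by
        rintro _ ⟨y, rfl⟩
        obtain ⟨z, hz⟩ := hT ⟨y, rfl⟩
        refine ⟨z, k'.isOpenEmbedding.injective ?_⟩
        rw [← Scheme.Hom.comp_apply, hfac, hz, ← hl]
        rfl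
      have h0 := killed_ι j' c T' w' hT'
      rw [hw]
      refine (Restrict.map_comp_apply I.obj _ v.op s).trans ((congrArg (I.obj.map v.op) ?_).trans (map_zero _))
      exact (Restrict.map_comp_apply I.obj (topHom k').op ((EtShriek.compEtale k').map w').op s).trans
        ((congrArg (I.obj.map ((EtShriek.compEtale k').map w').op) hs).trans h0))
    exact ⟨t, ι_injective j' _ ((ι_resΓ j k' j' hfac I t).trans ((congrArg _ ht).trans hs))⟩

/-- `μ_n` restricts to `μ_n`. -/
theorem nonempty_restr_mu {W : Scheme.{u}} (π : W ⟶ X) [Etale π] (n : ℕ) :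
    Nonempty ((EtShriek.restrAlong π).obj (EtCoh.mu X n) ≅ EtCoh.mu W n) := by
  let g : (EtShriek.restrAlong π).obj (EtCoh.Gm X) ≅ EtCoh.Gm W :=
    (fullyFaithfulSheafToPresheaf _ _).preimageIso (NatIso.ofComponents (fun _ => Iso.refl _) (fun f => by
      refine (Category.comp_id _).trans ((Category.id_comp _).trans ?_).symm
      rfl))
  refine ⟨(IsLimit.conePointUniqueUpToIso
    (KernelFork.mapIsLimit _ (kernelIsKernel (EtCoh.powMap X n)) (EtShriek.restrAlong π)) (limit.isLimit _)) ≪≫
    kernel.mapIso _ (EtCoh.powMap W n) g g ?_⟩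
  unfold EtCoh.powMap
  rw [Functor.map_nsmul, CategoryTheory.Functor.map_id, Preadditive.nsmul_comp, Preadditive.comp_nsmul,
    Category.id_comp, Category.comp_id]

theorem nonempty_restr_tate {W : Scheme.{u}} (π : W ⟶ X) [Etale π] (n c : ℕ) :
    Nonempty ((EtShriek.restrAlong π).obj (EtDual.tate X n c) ≅ EtDual.tate W n c) := by
  induction c with
  | zero => exact ⟨RestrSheafify.restrConstIso π (ZMod n)⟩
  | succ c ih =>
    obtain ⟨e⟩ := ih
    obtain ⟨m⟩ := nonempty_restr_mu π n
    exact ⟨RestrSheafify.restrTensorIso π _ _ ≪≫ (presheafToSheaf _ _).mapIso (RestrSheafify.tensorPreIso e m)⟩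

include hfac in
/-- Excision of a closed subset with vanishing cohomology. -/
theorem nonempty_HY_iso (n c : ℕ) (m : ℕ)
    (h : ∀ p, p ≤ m + 1 → IsZero ((EtDual.locCoh k' p).obj (EtDual.tate X n c))) :
    Nonempty ((EtDual.HY j m).obj (EtDual.tate X n c) ≅ (EtDual.HY j' m).obj (EtDual.tate X' n c)) := by
  let I := injectiveResolution (EtDual.tate X n c)
  let S : ShortComplex (CochainComplex AddCommGrpCat.{u + 1} ℕ) :=
    ShortComplex.mk
      ((NatTrans.mapHomologicalComplex (inclΓ j k' j' hfac) (ComplexShape.up ℕ)).app I.cocomplex)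
      ((NatTrans.mapHomologicalComplex (resΓ j k' j' hfac) (ComplexShape.up ℕ)).app I.cocomplex)
      (by ext i : 1; exact inclΓ_resΓ j k' j' hfac (I.cocomplex.X i))
  have hS : S.ShortExact := HomologicalComplex.shortExact_of_degreewise_shortExact _
    (fun i => shortExact j k' j' hfac (I.cocomplex.X i))
  have hz : ∀ p, p ≤ m + 1 → IsZero (S.X₁.homology p) := fun p hp => by
    obtain ⟨e⟩ := LocCohComp.nonempty_homology_iso (EtCoh.top X) (LocCoh.complexSeq k' I.cocomplex).X₁
      (fun i => LocCoh.secSupp_acyclic k' (I.cocomplex.X i) _) p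
      (fun q hq => (h q (by omega)).of_iso (LocCoh.locCohIso k' I q).symm)
    exact ((LocCohComp.Γat (EtCoh.top X)).map_isZero
      ((h p hp).of_iso (LocCoh.locCohIso k' I p).symm)).of_iso e
  haveI : IsIso (HomologicalComplex.homologyMap S.g m) := by
    haveI : Mono (HomologicalComplex.homologyMap S.g m) :=
      (hS.homology_exact₂ m).mono_g ((hz m (by omega)).eq_of_src _ _)
    haveI : Epi (HomologicalComplex.homologyMap S.g m) :=
      (hS.homology_exact₃ m (m + 1) rfl).epi_f ((hz (m + 1) le_rfl).eq_of_tgt _ _)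
    exact isIso_of_mono_of_epi _
  obtain ⟨e⟩ := nonempty_restr_tate k' n c
  exact ⟨I.isoRightDerivedObj (EtDual.gammaSupp j) m ≪≫ @asIso _ _ _ _ (HomologicalComplex.homologyMap S.g m) this ≪≫
    ((Restrict.restrRes k' I).isoRightDerivedObj (EtDual.gammaSupp j') m).symm ≪≫
    (EtDual.HY j' m).mapIso e⟩

end Groth.Agent.H88.Excision
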