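import Groth.Prelude.Def_EtBase
import Mathlib.CategoryTheory.Abelian.GrothendieckCategory.EnoughInjectives
import Mathlib.Algebra.Homology.DerivedCategory.Ext.ExactSequences
import Mathlib.Algebra.Homology.DerivedCategory.Ext.EnoughInjectives

/-!
Free abelian sheaves on objects of a small etale site: sections of injective sheaves
extend along monomorphisms, and the sections functor is controlled by Ext.
-/

universe u

open CategoryTheory CategoryTheory.Limits CategoryTheory.Abelian AlgebraicGeometry Opposite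

namespace Groth.Agent.H88.FreeSheaf

variable {X : Scheme.{u}}

/-- The free presheaf on an object. -/
noncomputable def freePre (V : X.Etale) : X.Etaleᵒᵖ ⥤ AddCommGrpCat.{u + 1} :=
  yoneda.obj V ⋙ uliftFunctor.{u + 1, u} ⋙ AddCommGrpCat.free.{u + 1}

/-- Maps out of the free presheaf. -/
noncomputable def freePreDesc {V : X.Etale} {P : X.Etaleᵒᵖ ⥤ AddCommGrpCat.{u + 1}}
    (s : P.obj (op V)) : freePre V ⟶ P where
  app T := AddCommGrpCat.ofHom (FreeAbelianGroup.lift (fun g => (P.map g.down.op) s))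
  naturality {T T'} h := by
    apply AddCommGrpCat.hom_ext
    apply FreeAbelianGroup.lift_ext
    intro g
    change FreeAbelianGroup.lift (fun g : ULift.{u + 1} (T'.unop ⟶ V) => (P.map g.down.op) s)
        (FreeAbelianGroup.map _ (FreeAbelianGroup.of g)) =
      (P.map h) (FreeAbelianGroup.lift (fun g : ULift.{u + 1} (T.unop ⟶ V) => (P.map g.down.op) s)
        (FreeAbelianGroup.of g))
    rw [FreeAbelianGroup.map_of_apply, FreeAbelianGroup.lift_apply_of, FreeAbelianGroup.lift_apply_of]
    exact congrArg (fun m => m.hom s) (P.map_comp g.down.op h)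

/-- The universal element of the free presheaf. -/
noncomputable def univ (V : X.Etale) : (freePre V).obj (op V) :=
  FreeAbelianGroup.of (ULift.up (𝟙 V))

lemma freePreDesc_univ {V : X.Etale} {P : X.Etaleᵒᵖ ⥤ AddCommGrpCat.{u + 1}}
    (s : P.obj (op V)) : (freePreDesc s).app (op V) (univ V) = s := by
  change FreeAbelianGroup.lift (fun g : ULift.{u + 1} (V ⟶ V) => (P.map g.down.op) s)
    (FreeAbelianGroup.of (ULift.up (𝟙 V))) = s
  rw [FreeAbelianGroup.lift_apply_of]
  exact congrArg (fun m => m.hom s) (P.map_id (op V))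

lemma freePre_hom_ext {V : X.Etale} {P : X.Etaleᵒᵖ ⥤ AddCommGrpCat.{u + 1}}
    {φ ψ : freePre V ⟶ P} (h : φ.app (op V) (univ V) = ψ.app (op V) (univ V)) : φ = ψ := by
  ext1
  ext1 T
  apply AddCommGrpCat.hom_ext
  apply FreeAbelianGroup.lift_ext
  rintro ⟨g⟩
  have e : (freePre V).map g.op (univ V) = (FreeAbelianGroup.of (ULift.up g) : (freePre V).obj T) := by
    change FreeAbelianGroup.map _ (FreeAbelianGroup.of (ULift.up (𝟙 V))) = _
    rw [FreeAbelianGroup.map_of_apply]
    exact congrArg (fun m => FreeAbelianGroup.of (ULift.up m)) (Category.comp_id g)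
  have h1 := congrArg (fun m => m.hom (univ V)) (φ.naturality g.op)
  have h2 := congrArg (fun m => m.hom (univ V)) (ψ.naturality g.op)
  simp only [AddCommGrpCat.hom_comp, AddMonoidHom.comp_apply] at h1 h2
  rw [e] at h1 h2
  exact h1.trans ((congrArg (P.map g.op) h).trans h2.symm)

/-- The map of free presheaves. -/
noncomputable def freePreMap {W V : X.Etale} (w : W ⟶ V) : freePre W ⟶ freePre V :=
  Functor.whiskerRight (yoneda.map w) (uliftFunctor.{u + 1, u} ⋙ AddCommGrpCat.free.{u + 1})

instance mono_freePreMap {W V : X.Etale} (w : W ⟶ V) [Mono w] : Mono (freePreMap w) := by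
  have : ∀ T, Mono ((freePreMap w).app T) := fun T => by
    have : Mono (((uliftFunctor.{u + 1, u}).map ((yoneda.map w).app T))) := by
      rw [mono_iff_injective]
      intro a b h
      exact ULift.ext _ _ ((cancel_mono w).1 (congrArg ULift.down h))
    exact AddCommGrpCat.free.{u + 1}.map_mono _
  exact NatTrans.mono_of_mono_app _

/-- The free sheaf on an object. -/
noncomputable def free (V : X.Etale) : EtCoh.Ab X :=
  (presheafToSheaf X.smallEtaleTopology AddCommGrpCat.{u + 1}).obj (freePre V)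

/-- Evaluation of a map out of the free sheaf. -/
noncomputable def ev {V : X.Etale} {A : EtCoh.Ab X} (φ : free V ⟶ A) : A.obj.obj (op V) :=
  (((sheafificationAdjunction X.smallEtaleTopology AddCommGrpCat.{u + 1}).homEquiv _ _) φ).app (op V)
    (univ V)

lemma ev_comp {V : X.Etale} {A B : EtCoh.Ab X} (φ : free V ⟶ A) (ψ : A ⟶ B) :
    ev (φ ≫ ψ) = ψ.hom.app (op V) (ev φ) := by
  unfold ev
  erw [Adjunction.homEquiv_naturality_right]
  rfl

lemma ev_bijective (V : X.Etale) (A : EtCoh.Ab X) :
    Function.Bijective (ev : (free V ⟶ A) → A.obj.obj (op V)) := by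
  refine ⟨fun φ ψ h => ?_, fun s => ?_⟩
  · exact (((sheafificationAdjunction X.smallEtaleTopology AddCommGrpCat.{u + 1}).homEquiv _ _)).injective
      (freePre_hom_ext h)
  · refine ⟨((sheafificationAdjunction X.smallEtaleTopology AddCommGrpCat.{u + 1}).homEquiv _ _).symm
      (freePreDesc (P := A.obj) s), ?_⟩
    unfold ev
    rw [Equiv.apply_symm_apply]
    exact freePreDesc_univ (P := A.obj) s

/-- The map of free sheaves. -/
noncomputable def freeMap {W V : X.Etale} (w : W ⟶ V) : free W ⟶ free V :=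
  (presheafToSheaf X.smallEtaleTopology AddCommGrpCat.{u + 1}).map (freePreMap w)

instance mono_freeMap {W V : X.Etale} (w : W ⟶ V) [Mono w] : Mono (freeMap w) :=
  Functor.map_mono _ _

/-- Sections of an injective sheaf extend along monomorphisms of the site. -/
theorem map_surjective_of_injective {W V : X.Etale} (w : W ⟶ V) [Mono w] (I : EtCoh.Ab X)
    [Injective I] : Function.Surjective (I.obj.map w.op) := by
  intro s
  obtain ⟨φ, rfl⟩ := (ev_bijective W I).2 s
  obtain ⟨ψ, hψ⟩ := Injective.factors φ (freeMap w)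
  refine ⟨ev ψ, ?_⟩
  rw [← hψ]
  unfold ev
  unfold freeMap
  erw [Adjunction.homEquiv_naturality_left]
  set θ := (sheafificationAdjunction X.smallEtaleTopology AddCommGrpCat.{u + 1}).homEquiv (freePre V) I ψ
  have h1 := congrArg (fun m => m.hom (univ V)) (θ.naturality w.op)
  simp only [AddCommGrpCat.hom_comp, AddMonoidHom.comp_apply] at h1
  refine h1.symm.trans (congrArg (θ.app (op W)) ?_)
  change FreeAbelianGroup.map _ (FreeAbelianGroup.of (ULift.up (𝟙 V))) =
    FreeAbelianGroup.map _ (FreeAbelianGroup.of (ULift.up (𝟙 W)))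
  rw [FreeAbelianGroup.map_of_apply, FreeAbelianGroup.map_of_apply]
  exact congrArg (fun m => FreeAbelianGroup.of (ULift.up m))
    ((Category.comp_id w).trans (Category.id_comp w).symm)

/-- `A` has no higher cohomology over `V`. -/
def Acyclic (V : X.Etale) (A : EtCoh.Ab X) : Prop :=
  ∀ q : ℕ, 0 < q → Subsingleton (Ext.{u + 1} (free V) A q)

lemma acyclic_of_injective (V : X.Etale) (A : EtCoh.Ab X) [Injective A] : Acyclic V A := by
  intro q hq
  obtain ⟨q, rfl⟩ : ∃ r, q = r + 1 := ⟨q - 1, by omega⟩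
  exact subsingleton_of_forall_eq 0 fun e => Ext.eq_zero_of_injective e

lemma acyclic_of_isZero (V : X.Etale) {A : EtCoh.Ab X} (hA : IsZero A) : Acyclic V A :=
  haveI := hA.injective
  acyclic_of_injective V A

/-- Sections of the quotient lift, if the kernel is acyclic. -/
lemma surjective_of_acyclic {V : X.Etale} {S : ShortComplex (EtCoh.Ab X)} (hS : S.ShortExact)
    (h : Acyclic V S.X₁) : Function.Surjective (S.g.hom.app (op V)) := by
  intro s
  obtain ⟨φ, rfl⟩ := (ev_bijective V S.X₃).2 s
  haveI := h 1 one_pos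
  obtain ⟨x, hx⟩ := Ext.covariant_sequence_exact₃ (free V) hS (Ext.mk₀ φ) (zero_add 1)
    (Subsingleton.elim _ _)
  obtain ⟨ψ, rfl⟩ := (Ext.mk₀_bijective _ _).2 x
  rw [Ext.mk₀_comp_mk₀] at hx
  exact ⟨ev ψ, by rw [← ev_comp, (Ext.mk₀_bijective _ _).1 hx]⟩

/-- Quotients of acyclic objects by acyclic objects are acyclic. -/
lemma acyclic_quotient {V : X.Etale} {S : ShortComplex (EtCoh.Ab X)} (hS : S.ShortExact)
    (h₁ : Acyclic V S.X₁) (h₂ : Acyclic V S.X₂) : Acyclic V S.X₃ := by
  intro q hq
  refine subsingleton_of_forall_eq 0 fun e => ?_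
  haveI := h₁ (q + 1) (by omega)
  haveI := h₂ q hq
  obtain ⟨x, rfl⟩ := Ext.covariant_sequence_exact₃ (free V) hS e rfl (Subsingleton.elim _ _)
  rw [Subsingleton.elim x 0, Ext.zero_comp]

/-- A kernel of a sectionwise surjection between acyclic objects is acyclic. -/
lemma acyclic_kernel {V : X.Etale} {S : ShortComplex (EtCoh.Ab X)} (hS : S.ShortExact)
    (h₂ : Acyclic V S.X₂) (h₃ : Acyclic V S.X₃)
    (hs : Function.Surjective (S.g.hom.app (op V))) : Acyclic V S.X₁ := by
  intro q hq
  refine subsingleton_of_forall_eq 0 fun e => ?_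
  haveI := h₂ q hq
  obtain ⟨q, rfl⟩ : ∃ r, q = r + 1 := ⟨q - 1, by omega⟩
  obtain ⟨x, rfl⟩ := Ext.covariant_sequence_exact₁ (free V) hS e (Subsingleton.elim _ _) rfl
  rcases q with _ | q
  · obtain ⟨φ, rfl⟩ := (Ext.mk₀_bijective _ _).2 x
    obtain ⟨t, ht⟩ := hs (ev φ)
    obtain ⟨ψ, rfl⟩ := (ev_bijective V S.X₂).2 t
    rw [← ev_comp] at ht
    rw [← (ev_bijective V S.X₃).1 ht, ← Ext.mk₀_comp_mk₀,
      Ext.comp_assoc _ _ _ (add_zero 0) (zero_add 1) (by omega), hS.comp_extClass, Ext.comp_zero]
  · haveI := h₃ (q + 1) (by omega)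
    rw [Subsingleton.elim x 0, Ext.zero_comp]

end Groth.Agent.H88.FreeSheaf
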