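import Groth.Prelude.Def_EtDual
import Groth.Agent.Lib.EtJ.PullExact
import Groth.Agent.H88.FreeSheaf
import Mathlib.CategoryTheory.Adjunction.Unique
import Mathlib.Algebra.Homology.HomologySequence
import Mathlib.Algebra.Homology.HomologicalComplexAbelian

/-!
Sections with support off an open subscheme: the sequence `0 → Γ_Z I → I → j_* j^* I → 0`
for injective sheaves, and the resulting identification of local cohomology.
-/

universe u

open CategoryTheory CategoryTheory.Limits AlgebraicGeometry Opposite

namespace Groth.Agent.H88.LocCoh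

variable {X U : Scheme.{u}} (j : U ⟶ X) [IsOpenImmersion j]

instance pull_additive : (EtCoh.pull j).Additive :=
  (EtCoh.pullPushAdj j).left_adjoint_additive

instance pullPush_preservesFiniteLimits : PreservesFiniteLimits (EtCoh.pull j ⋙ EtCoh.push j) :=
  haveI : PreservesLimitsOfSize.{0, 0} (EtCoh.push j) :=
    (EtCoh.pullPushAdj j).rightAdjoint_preservesLimits
  haveI : PreservesFiniteLimits (EtCoh.push j) :=
    PreservesLimitsOfSize.preservesFiniteLimits _
  comp_preservesFiniteLimits _ _

lemma mono_counit (V : X.Etale) : Mono ((Lib.EtJ.Basic.compEtaleAdj j).counit.app V) := by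
  have h : Mono (pullback.fst V.hom j) := inferInstance
  have e : ((Lib.EtJ.Basic.compEtaleAdj j).counit.app V).left = pullback.fst V.hom j := by
    simp [Lib.EtJ.Basic.compEtaleAdj, MorphismProperty.Over.mapPullbackAdj]
    try rfl
  refine (Scheme.Etale.forget X).mono_of_mono_map ?_
  refine (Over.forget X).mono_of_mono_map ?_
  change Mono (((Lib.EtJ.Basic.compEtaleAdj j).counit.app V).left)
  rw [e]
  exact h

/-- For injective `I` the unit `I → j_* j^* I` is surjective on sections. -/
theorem unit_app_surjective (I : EtCoh.Ab X) [Injective I] (V : X.Etale) :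
    Function.Surjective ((EtDual.unitApp j I).hom.app (op V)) := by
  have h := Adjunction.unit_leftAdjointUniq_hom_app (EtCoh.pullPushAdj j)
    (Lib.EtJ.Basic.restrPushAdj j) I
  haveI := mono_counit j V
  have hs : Function.Surjective (((Lib.EtJ.Basic.restrPushAdj j).unit.app I).hom.app (op V)) :=
    FreeSheaf.map_surjective_of_injective ((Lib.EtJ.Basic.compEtaleAdj j).counit.app V) I
  let e := (Adjunction.leftAdjointUniq (EtCoh.pullPushAdj j) (Lib.EtJ.Basic.restrPushAdj j)).app I
  have e' : EtDual.unitApp j I =
      (Lib.EtJ.Basic.restrPushAdj j).unit.app I ≫ (EtCoh.push j).map e.inv := by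
    rw [← h, Category.assoc, ← Functor.map_comp]
    simp [e]
  rw [e']
  intro t
  haveI : IsIso ((EtCoh.push j).map e.inv) := inferInstance
  obtain ⟨s, hs'⟩ := hs (((EtCoh.push j).map e.hom).hom.app (op V) t)
  refine ⟨s, ?_⟩
  change ((EtCoh.push j).map e.inv).hom.app (op V)
    (((Lib.EtJ.Basic.restrPushAdj j).unit.app I).hom.app (op V) s) = t
  rw [hs']
  have := congrArg (fun m => (m.hom.app (op V)).hom t)
    (((EtCoh.push j).mapIso e).hom_inv_id)
  exact this

lemma epi_unitApp (I : EtCoh.Ab X) [Injective I] : Epi (EtDual.unitApp j I) := by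
  haveI : ∀ V, Epi ((EtDual.unitApp j I).hom.app V) := fun V =>
    (AddCommGrpCat.epi_iff_surjective _).2 (unit_app_surjective j I V.unop)
  haveI : Epi (EtDual.unitApp j I).hom := NatTrans.epi_of_epi_app _
  exact (sheafToPresheaf X.smallEtaleTopology AddCommGrpCat.{u + 1}).epi_of_epi_map
    (show Epi (EtDual.unitApp j I).hom from inferInstance)

/-- The sequence `0 → Γ_Z F → F → j_* j^* F`. -/
noncomputable abbrev seq (F : EtCoh.Ab X) : ShortComplex (EtCoh.Ab X) :=
  ShortComplex.mk (kernel.ι (EtDual.unitApp j F)) (EtDual.unitApp j F) (kernel.condition _)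

lemma seq_shortExact (I : EtCoh.Ab X) [Injective I] : (seq j I).ShortExact :=
  haveI := epi_unitApp j I
  { exact := ShortComplex.exact_of_f_is_kernel _ (kernelIsKernel _) }

lemma secSupp_acyclic (I : EtCoh.Ab X) [Injective I] (V : X.Etale) :
    FreeSheaf.Acyclic V ((EtDual.secSupp j).obj I) := by
  haveI : Injective ((EtCoh.pull j).obj I) := (EtCoh.pull j).injective_obj I
  haveI : Injective ((EtCoh.push j).obj ((EtCoh.pull j).obj I)) := (EtCoh.push j).injective_obj _
  exact FreeSheaf.acyclic_kernel (seq_shortExact j I) (FreeSheaf.acyclic_of_injective V _)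
    (FreeSheaf.acyclic_of_injective V _) (unit_app_surjective j I V)

/-- The natural inclusion `Γ_Z → id`. -/
noncomputable def secSuppι : EtDual.secSupp j ⟶ 𝟭 (EtCoh.Ab X) where
  app F := kernel.ι (EtDual.unitApp j F)
  naturality F G f := by
    exact kernel.lift_ι _ _ _

/-- The short complex of complexes. -/
noncomputable def complexSeq (K : CochainComplex (EtCoh.Ab X) ℕ) :
    ShortComplex (CochainComplex (EtCoh.Ab X) ℕ) :=
  ShortComplex.mk (X₁ := ((EtDual.secSupp j).mapHomologicalComplex _).obj K) (X₂ := K)
    (X₃ := ((EtCoh.pull j ⋙ EtCoh.push j).mapHomologicalComplex _).obj K)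
    { f := fun i => kernel.ι (EtDual.unitApp j (K.X i))
      comm' := fun i k _ => ((secSuppι j).naturality (K.d i k)).symm }
    { f := fun i => EtDual.unitApp j (K.X i)
      comm' := fun i k _ => ((EtCoh.pullPushAdj j).unit.naturality (K.d i k)).symm }
    (by ext i : 1; exact kernel.condition _)

lemma complexSeq_shortExact (K : CochainComplex (EtCoh.Ab X) ℕ) [∀ i, Injective (K.X i)] :
    (complexSeq j K).ShortExact :=
  HomologicalComplex.shortExact_of_degreewise_shortExact _ (fun i => seq_shortExact j (K.X i))

/-- An injective resolution pulled back to `U`. -/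
noncomputable def pullRes {F : EtCoh.Ab X} (I : InjectiveResolution F) :
    InjectiveResolution ((EtCoh.pull j).obj F) where
  cocomplex := ((EtCoh.pull j).mapHomologicalComplex _).obj I.cocomplex
  injective n := (EtCoh.pull j).injective_obj _
  ι := (HomologicalComplex.singleMapHomologicalComplex (EtCoh.pull j) _ 0).inv.app F ≫
    ((EtCoh.pull j).mapHomologicalComplex _).map I.ι
  quasiIso := by
    haveI : PreservesFiniteColimits (EtCoh.pull j) :=
      haveI : PreservesColimitsOfSize.{0, 0} (EtCoh.pull j) := (EtCoh.pullPushAdj j).leftAdjoint_preservesColimits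
      PreservesColimitsOfSize.preservesFiniteColimits _
    haveI : (EtCoh.pull j).PreservesHomology := inferInstance
    haveI := I.quasiIso
    infer_instance

/-- `R^p j_* (j^* F)` is computed by `j_* j^* I`. -/
noncomputable def rpushIso {F : EtCoh.Ab X} (I : InjectiveResolution F) (p : ℕ) :
    (EtCoh.Rpush j p).obj ((EtCoh.pull j).obj F) ≅ (complexSeq j I.cocomplex).X₃.homology p :=
  (pullRes j I).isoRightDerivedObj (EtCoh.push j) p

/-- Local cohomology is computed by `Γ_Z I`. -/
noncomputable def locCohIso {F : EtCoh.Ab X} (I : InjectiveResolution F) (p : ℕ) :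
    (EtDual.locCoh j p).obj F ≅ (complexSeq j I.cocomplex).X₁.homology p :=
  I.isoRightDerivedObj (EtDual.secSupp j) p

end Groth.Agent.H88.LocCoh
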