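import Groth.Agent.H88.LocCoh

/-!
The long exact sequence of local cohomology sheaves.
-/

universe u

open CategoryTheory CategoryTheory.Limits AlgebraicGeometry Opposite

namespace Groth.Agent.H88.LocCohSeq

variable {X U : Scheme.{u}} (j : U ⟶ X) [IsOpenImmersion j] {F : EtCoh.Ab X}

lemma isZero_homology_succ (I : InjectiveResolution F) (p : ℕ) : IsZero (I.cocomplex.homology (p + 1)) :=
  (I.cocomplex_exactAt_succ p).isZero_homology

lemma pullPush_exact₀ (I : InjectiveResolution F) :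
    ∃ h : (EtCoh.pull j ⋙ EtCoh.push j).map (I.ι.f 0) ≫
        (EtCoh.pull j ⋙ EtCoh.push j).map (I.cocomplex.d 0 1) = 0,
      (ShortComplex.mk _ _ h).Exact ∧ Mono ((EtCoh.pull j ⋙ EtCoh.push j).map (I.ι.f 0)) := by
  refine ⟨by rw [← Functor.map_comp, I.ι_f_zero_comp_complex_d, Functor.map_zero], ?_, ?_⟩
  · haveI : Mono (ShortComplex.mk (I.ι.f 0) (I.cocomplex.d 0 1) I.ι_f_zero_comp_complex_d).f :=
      inferInstanceAs (Mono (I.ι.f 0))
    exact I.exact₀.map_of_mono_of_preservesKernel (EtCoh.pull j ⋙ EtCoh.push j) inferInstance inferInstance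
  · haveI : PreservesLimitsOfShape WalkingCospan (EtCoh.pull j ⋙ EtCoh.push j) :=
      PreservesFiniteLimits.preservesFiniteLimits _
    exact Functor.map_mono _ _

/-- `F ≅ H⁰` of the resolution. -/
noncomputable def zeroIso (I : InjectiveResolution F) : F ≅ I.cocomplex.homology 0 :=
  @asIso _ _ _ _ (HomologicalComplex.liftCycles I.cocomplex (I.ι.f 0) 1 ((ComplexShape.up ℕ).next_eq' rfl)
      I.ι_f_zero_comp_complex_d)
    ((CochainComplex.isIso_liftCycles_iff _ _ _).2 ⟨I.exact₀, inferInstanceAs (Mono (I.ι.f 0))⟩) ≪≫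
    CochainComplex.isoHomologyπ₀ _

/-- `j_* j^* F ≅ H⁰` of `j_* j^*` of the resolution. -/
noncomputable def zeroIso₃ (I : InjectiveResolution F) :
    (EtCoh.push j).obj ((EtCoh.pull j).obj F) ≅ (LocCoh.complexSeq j I.cocomplex).X₃.homology 0 :=
  @asIso _ _ _ _ (HomologicalComplex.liftCycles (LocCoh.complexSeq j I.cocomplex).X₃
      ((EtCoh.pull j ⋙ EtCoh.push j).map (I.ι.f 0)) 1 ((ComplexShape.up ℕ).next_eq' rfl) (pullPush_exact₀ j I).1)
    ((CochainComplex.isIso_liftCycles_iff _ _ _).2 (pullPush_exact₀ j I).2) ≪≫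
    CochainComplex.isoHomologyπ₀ _

lemma zeroIso_comm (I : InjectiveResolution F) :
    (zeroIso I).hom ≫ HomologicalComplex.homologyMap (LocCoh.complexSeq j I.cocomplex).g 0 =
      EtDual.unitApp j F ≫ (zeroIso₃ j I).hom := by
  dsimp only [zeroIso, zeroIso₃, Iso.trans_hom, asIso_hom, CochainComplex.isoHomologyπ₀, HomologicalComplex.isoHomologyπ_hom]
  rw [Category.assoc]
  erw [HomologicalComplex.homologyπ_naturality]
  rw [← Category.assoc, ← Category.assoc]
  congr 1
  rw [← cancel_mono (HomologicalComplex.iCycles _ _)]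
  simp only [Category.assoc, HomologicalComplex.cyclesMap_i, HomologicalComplex.liftCycles_i]
  erw [HomologicalComplex.liftCycles_i_assoc]
  exact ((EtCoh.pullPushAdj j).unit.naturality (I.ι.f 0))

/-- The connecting isomorphism in degrees `≥ 1`. -/
theorem nonempty_succ_iso (F : EtCoh.Ab X) (p : ℕ) (hp : 1 ≤ p) :
    Nonempty ((EtCoh.Rpush j p).obj ((EtCoh.pull j).obj F) ≅ (EtDual.locCoh j (p + 1)).obj F) := by
  let I := injectiveResolution F
  have hS := LocCoh.complexSeq_shortExact j I.cocomplex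
  obtain ⟨q, rfl⟩ : ∃ q, p = q + 1 := ⟨p - 1, by omega⟩
  haveI := hS.isIso_δ (q + 1) (q + 1 + 1) rfl (isZero_homology_succ I q) (isZero_homology_succ I (q + 1))
  exact ⟨LocCoh.rpushIso j I (q + 1) ≪≫ asIso (hS.δ (q + 1) (q + 1 + 1) rfl) ≪≫
    (LocCoh.locCohIso j I (q + 1 + 1)).symm⟩

/-- The connecting isomorphism in degree one. -/
theorem nonempty_one_iso (F : EtCoh.Ab X) :
    Nonempty (cokernel (EtDual.unitApp j F) ≅ (EtDual.locCoh j 1).obj F) := by
  let I := injectiveResolution F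
  have hS := LocCoh.complexSeq_shortExact j I.cocomplex
  haveI := hS.epi_δ 0 1 rfl (isZero_homology_succ I 0)
  let e := IsColimit.coconePointUniqueUpToIso
    (colimit.isColimit (parallelPair (HomologicalComplex.homologyMap (LocCoh.complexSeq j I.cocomplex).g 0) 0))
    (hS.homology_exact₃ 0 1 rfl).gIsCokernel
  exact ⟨cokernel.mapIso (EtDual.unitApp j F) _ (zeroIso I) (zeroIso₃ j I) (zeroIso_comm j I).symm ≪≫
    e ≪≫ (LocCoh.locCohIso j I 1).symm⟩

end Groth.Agent.H88.LocCohSeq
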