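import Groth.Agent.H88.LocCohSeq

/-!
Restriction of sections with supports and local cohomology to etale schemes over `X`.
-/

universe u

open CategoryTheory CategoryTheory.Limits AlgebraicGeometry Opposite

namespace Groth.Agent.H88.Restrict

variable {X U : Scheme.{u}} (j : U ⟶ X) [IsOpenImmersion j]

lemma range_bc_obj (V : X.Etale) :
    Set.range ((EtShriek.compEtale j).obj ((EtCoh.bc j).obj V)).hom.base ⊆ Set.range j.base := by
  rintro _ ⟨y, rfl⟩
  exact ⟨(pullback.snd V.hom j).base y, by
    rw [← Scheme.Hom.comp_apply]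
    rfl⟩

lemma map_comp_apply (P : X.Etaleᵒᵖ ⥤ AddCommGrpCat.{u + 1}) {a b c : X.Etaleᵒᵖ} (f : a ⟶ b) (g : b ⟶ c)
    (x : P.obj a) : P.map (f ≫ g) x = P.map g (P.map f x) :=
  congrArg (fun t => t.hom x) (P.map_comp f g)

/-- `φ` dies in `j_* j^* A` iff its image vanishes on every object lying over `U`. -/
theorem comp_unitApp_eq_zero_iff {K A : EtCoh.Ab X} (φ : K ⟶ A) :
    φ ≫ EtDual.unitApp j A = 0 ↔
      ∀ (V : X.Etale) (s : K.obj.obj (op V)) (T : X.Etale) (w : T ⟶ V),
        Set.range T.hom.base ⊆ Set.range j.base → A.obj.map w.op (φ.hom.app (op V) s) = 0 := by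
  have h := Adjunction.unit_leftAdjointUniq_hom_app (EtCoh.pullPushAdj j)
    (Lib.EtJ.Basic.restrPushAdj j) A
  haveI : IsIso ((Adjunction.leftAdjointUniq (EtCoh.pullPushAdj j) (Lib.EtJ.Basic.restrPushAdj j)).hom.app A) :=
    inferInstance
  have key : φ ≫ EtDual.unitApp j A = 0 ↔ ∀ (V : X.Etale) (s : K.obj.obj (op V)),
      A.obj.map ((Lib.EtJ.Basic.compEtaleAdj j).counit.app V).op (φ.hom.app (op V) s) = 0 := by
    rw [← cancel_mono ((EtCoh.push j).map ((Adjunction.leftAdjointUniq (EtCoh.pullPushAdj j)
      (Lib.EtJ.Basic.restrPushAdj j)).hom.app A)), Category.assoc, zero_comp]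
    erw [h]
    constructor
    · intro e V s
      exact congrArg (fun m => (m.hom.app (op V)).hom s) e
    · intro e
      ext V s
      exact e V.unop s
  rw [key]
  constructor
  · intro e V s T w hT
    let l : T.left ⟶ U := IsOpenImmersion.lift j T.hom hT
    let m : T.left ⟶ pullback V.hom j := pullback.lift w.left l
      (by rw [IsOpenImmersion.lift_fac]; exact MorphismProperty.Over.w w)
    let w' : T ⟶ (EtShriek.compEtale j).obj ((EtCoh.bc j).obj V) :=
      MorphismProperty.Over.homMk m (by
        change pullback.lift w.left l _ ≫ pullback.snd V.hom j ≫ j = T.hom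
        rw [pullback.lift_snd_assoc, IsOpenImmersion.lift_fac])
    have hw : w = w' ≫ (Lib.EtJ.Basic.compEtaleAdj j).counit.app V := by
      apply MorphismProperty.Over.Hom.ext
      have e1 : ((Lib.EtJ.Basic.compEtaleAdj j).counit.app V).left = pullback.fst V.hom j := by
        simp [Lib.EtJ.Basic.compEtaleAdj, MorphismProperty.Over.mapPullbackAdj]
        try rfl
      change w.left = m ≫ ((Lib.EtJ.Basic.compEtaleAdj j).counit.app V).left
      rw [e1, pullback.lift_fst]
    rw [hw]
    refine (congrArg (fun t => t.hom (φ.hom.app (op V) s)) (A.obj.map_comp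
      ((Lib.EtJ.Basic.compEtaleAdj j).counit.app V).op w'.op)).trans ?_
    exact (congrArg (fun t => A.obj.map w'.op t) (e V s)).trans (map_zero _)
  · intro e V s
    exact e V s _ _ (range_bc_obj j V)

variable {W : Scheme.{u}} (π : W ⟶ X) [Etale π]

/-- The open immersion into `W` cut out by `j`. -/
noncomputable abbrev jW : pullback π j ⟶ W := pullback.fst π j

lemma range_jW : Set.range (jW j π).base = π.base ⁻¹' Set.range j.base :=
  Scheme.Pullback.range_fst π j

lemma range_comp_subset_iff (T : W.Etale) :
    Set.range ((EtShriek.compEtale π).obj T).hom.base ⊆ Set.range j.base ↔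
      Set.range T.hom.base ⊆ Set.range (jW j π).base := by
  rw [range_jW]
  change Set.range (T.hom ≫ π).base ⊆ _ ↔ _
  rw [Scheme.Hom.comp_base, TopCat.coe_comp, Set.range_comp, Set.image_subset_iff]

lemma restr_kernel_ι_comp (A : EtCoh.Ab X) :
    (EtShriek.restrAlong π).map (kernel.ι (EtDual.unitApp j A)) ≫
      EtDual.unitApp (jW j π) ((EtShriek.restrAlong π).obj A) = 0 := by
  rw [comp_unitApp_eq_zero_iff]
  intro V s T w hT
  exact (comp_unitApp_eq_zero_iff j (kernel.ι (EtDual.unitApp j A))).1 (kernel.condition _)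
    ((EtShriek.compEtale π).obj V) s _ ((EtShriek.compEtale π).map w)
    ((range_comp_subset_iff j π T).2 hT)

lemma kernel_ι_comp_restr (A : EtCoh.Ab X) :
    kernel.ι (EtDual.unitApp (jW j π) ((EtShriek.restrAlong π).obj A)) ≫
      (EtShriek.restrAlong π).map (EtDual.unitApp j A) = 0 := by
  have h := Adjunction.unit_leftAdjointUniq_hom_app (EtCoh.pullPushAdj j)
    (Lib.EtJ.Basic.restrPushAdj j) A
  rw [← cancel_mono ((EtShriek.restrAlong π).map ((EtCoh.push j).map ((Adjunction.leftAdjointUniq
      (EtCoh.pullPushAdj j) (Lib.EtJ.Basic.restrPushAdj j)).hom.app A))), Category.assoc,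
    ← Functor.map_comp, zero_comp]
  erw [h]
  ext V s
  let V' := (EtShriek.compEtale π).obj V.unop
  let c := (Lib.EtJ.Basic.compEtaleAdj j).counit.app V'
  let T : W.Etale := MorphismProperty.Over.mk ⊤ (c.left ≫ V.unop.hom)
    (EtCoh.etaleMP.of_postcomp (W' := EtCoh.etaleMP) _ π inferInstance (by
      have e : c.left ≫ V'.hom = _ := MorphismProperty.Over.w c
      rw [Category.assoc]
      exact (show c.left ≫ V.unop.hom ≫ π = _ from e) ▸ ((EtShriek.compEtale j).obj ((EtCoh.bc j).obj V')).prop))
  let i : (EtShriek.compEtale j).obj ((EtCoh.bc j).obj V') ⟶ (EtShriek.compEtale π).obj T :=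
    MorphismProperty.Over.homMk (𝟙 _) ((Category.id_comp _).trans
      ((Category.assoc _ _ _).trans (MorphismProperty.Over.w c)))
  let w : T ⟶ V.unop := MorphismProperty.Over.homMk c.left rfl
  have hc : c = i ≫ (EtShriek.compEtale π).map w :=
    MorphismProperty.Over.Hom.ext (Category.id_comp _).symm
  have hT : Set.range T.hom.base ⊆ Set.range (jW j π).base := by
    rw [← range_comp_subset_iff]
    refine fun x hx => range_bc_obj j V' ?_
    obtain ⟨y, rfl⟩ := hx
    refine ⟨y, ?_⟩
    rw [← MorphismProperty.Over.w i]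
    rfl
  have h0 := (comp_unitApp_eq_zero_iff (jW j π)
    (kernel.ι (EtDual.unitApp (jW j π) ((EtShriek.restrAlong π).obj A)))).1 (kernel.condition _)
    V.unop s T w hT
  change A.obj.map c.op _ = 0
  rw [hc]
  exact (map_comp_apply A.obj ((EtShriek.compEtale π).map w).op i.op _).trans
    ((congrArg (fun t => A.obj.map i.op t) h0).trans (map_zero _))

/-- Sections with supports commute with restriction. -/
noncomputable def secSuppRestr :
    EtDual.secSupp j ⋙ EtShriek.restrAlong π ≅ EtShriek.restrAlong π ⋙ EtDual.secSupp (jW j π) :=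
  NatIso.ofComponents
    (fun A =>
      { hom := kernel.lift _ ((EtShriek.restrAlong π).map (kernel.ι (EtDual.unitApp j A)))
          (restr_kernel_ι_comp j π A)
        inv := (KernelFork.mapIsLimit _ (kernelIsKernel (EtDual.unitApp j A))
          (EtShriek.restrAlong π)).lift (KernelFork.ofι
            (kernel.ι (EtDual.unitApp (jW j π) ((EtShriek.restrAlong π).obj A))) (kernel_ι_comp_restr j π A))
        hom_inv_id := by
          refine Fork.IsLimit.hom_ext (KernelFork.mapIsLimit _ (kernelIsKernel (EtDual.unitApp j A))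
            (EtShriek.restrAlong π)) ?_
          erw [Category.assoc, Fork.IsLimit.lift_ι]
          erw [kernel.lift_ι, Category.id_comp]
          rfl
        inv_hom_id := by
          rw [← cancel_mono (kernel.ι (EtDual.unitApp (jW j π) ((EtShriek.restrAlong π).obj A)))]
          rw [Category.assoc, kernel.lift_ι]
          exact ((KernelFork.mapIsLimit _ (kernelIsKernel (EtDual.unitApp j A))
            (EtShriek.restrAlong π)).fac _ WalkingParallelPair.zero).trans (Category.id_comp _).symm })
    (fun {A B} f => by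
      rw [← cancel_mono (kernel.ι (EtDual.unitApp (jW j π) ((EtShriek.restrAlong π).obj B)))]
      dsimp only [Functor.comp_obj, Functor.comp_map]
      rw [Category.assoc, Category.assoc, kernel.lift_ι]
      erw [kernel.lift_ι]
      rw [← Category.assoc, kernel.lift_ι, ← Functor.map_comp, ← Functor.map_comp]
      exact congrArg (EtShriek.restrAlong π).map (kernel.lift_ι _ _ _))

/-- An injective resolution restricted to `W`. -/
noncomputable def restrRes {F : EtCoh.Ab X} (I : InjectiveResolution F) :
    InjectiveResolution ((EtShriek.restrAlong π).obj F) where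
  cocomplex := ((EtShriek.restrAlong π).mapHomologicalComplex _).obj I.cocomplex
  injective n := (EtShriek.restrAlong π).injective_obj _
  ι := (HomologicalComplex.singleMapHomologicalComplex (EtShriek.restrAlong π) _ 0).inv.app F ≫
    ((EtShriek.restrAlong π).mapHomologicalComplex _).map I.ι
  quasiIso := by
    haveI : (EtShriek.restrAlong π).PreservesHomology := inferInstance
    haveI := I.quasiIso
    infer_instance

/-- Local cohomology commutes with restriction. -/
noncomputable def locCohRestr (F : EtCoh.Ab X) (p : ℕ) :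
    (EtShriek.restrAlong π).obj ((EtDual.locCoh j p).obj F) ≅
      (EtDual.locCoh (jW j π) p).obj ((EtShriek.restrAlong π).obj F) :=
  let I := injectiveResolution F
  haveI : (EtShriek.restrAlong π).PreservesHomology := inferInstance
  (EtShriek.restrAlong π).mapIso (LocCoh.locCohIso j I p) ≪≫
    ((ShortComplex.mapHomologyIso ((LocCoh.complexSeq j I.cocomplex).X₁.sc p)
      (EtShriek.restrAlong π))).symm ≪≫
    HomologicalComplex.homologyMapIso
      ((NatIso.mapHomologicalComplex (secSuppRestr j π) (ComplexShape.up ℕ)).app I.cocomplex) p ≪≫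
    ((restrRes π I).isoRightDerivedObj (EtDual.secSupp (jW j π)) p).symm

end Groth.Agent.H88.Restrict
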