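import Groth.Agent.H88.TateLocal
import Groth.Agent.H88.LocCohComp

/-!
Semipurity passes from `ℤ/n` to the Tate twists.
-/

universe u

open CategoryTheory CategoryTheory.Limits AlgebraicGeometry Opposite

namespace Groth.Agent.H88.Semipurity

lemma isEmpty_of_isUnit_zero {X : Scheme.{u}} (h : IsUnit ((0 : ℕ) : Γ(X, ⊤))) : IsEmpty X := by
  refine ⟨fun x => not_isUnit_zero (M₀ := X.presheaf.stalk x) ?_⟩
  simpa using h.map (X.presheaf.germ ⊤ x trivial).hom

theorem isZero_locCoh_tate {X U : Scheme.{u}} (j : U ⟶ X) [IsOpenImmersion j] {n : ℕ}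
    (hu : IsUnit (n : Γ(X, ⊤))) (p : ℕ) (h : IsZero ((EtDual.locCoh j p).obj (EtCoh.const X (ZMod n))))
    (c : ℕ) : IsZero ((EtDual.locCoh j p).obj (EtDual.tate X n c)) := by
  rcases Nat.eq_zero_or_pos n with rfl | hn
  · haveI := isEmpty_of_isUnit_zero hu
    exact RestrSheafify.isZero_of_covers (ι := PEmpty) (V := fun a => a.elim) (fun x => isEmptyElim x) _
      (fun a => a.elim)
  obtain ⟨ι, V, hV, hiso⟩ := TateLocal.exists_covers (n := n) X hn hu
  refine RestrSheafify.isZero_of_covers hV _ fun a => ?_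
  obtain ⟨e⟩ := hiso a c
  exact ((EtShriek.restrAlong (V a).hom).map_isZero h).of_iso
    (Restrict.locCohRestr j (V a).hom _ p ≪≫ (EtDual.locCoh _ p).mapIso
      (e ≪≫ (RestrSheafify.restrConstIso (V a).hom (ZMod n)).symm) ≪≫
      (Restrict.locCohRestr j (V a).hom _ p).symm)

end Groth.Agent.H88.Semipurity
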