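import Mathlib.LinearAlgebra.Trace
import Mathlib.Algebra.Group.Int.Even
import Mathlib.Algebra.Ring.Parity

namespace Groth.Agent.H88.SuperTrace

universe u v w

variable {R : Type u} [CommRing R] {ι : Type v} [Fintype ι] [DecidableEq ι]
  {M : ι → Type w} [∀ i, AddCommGroup (M i)] [∀ i, Module R (M i)]

open LinearMap in
theorem trace_eq_sum_blocks [∀ x, Module.Free R (M x)] [∀ x, Module.Finite R (M x)]
    (f : (∀ x, M x) →ₗ[R] (∀ x, M x)) :
    trace R (∀ x, M x) f = ∑ x, trace R (M x) ((proj x).comp (f.comp (single R M x))) := by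
  have hf : f = ∑ x, (single R M x).comp ((proj x).comp f) := by
    ext e j
    simp [Finset.sum_apply, Pi.single_apply]
  conv_lhs => rw [hf, map_sum]
  refine Finset.sum_congr rfl fun x _ => ?_
  rw [trace_comp_comm', LinearMap.comp_assoc]

noncomputable def invol (deg : ι → ℤ) : (Π k, M k) →ₗ[R] (Π k, M k) :=
  ∑ i : ι, (LinearMap.single R M i) ∘ₗ (((-1 : R) ^ (deg i).natAbs) • (LinearMap.proj i : (Π k, M k) →ₗ[R] M i))

theorem proj_invol (deg : ι → ℤ) (i : ι) (f : (Π k, M k) →ₗ[R] (Π k, M k)) :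
    (LinearMap.proj i : (Π k, M k) →ₗ[R] M i) ∘ₗ invol deg ∘ₗ f =
      ((-1 : R) ^ (deg i).natAbs) • ((LinearMap.proj i) ∘ₗ f) := by
  refine LinearMap.ext fun x => ?_
  simp [invol]

theorem neg_one_pow_natAbs_add (x y : ℤ) :
    (-1 : R) ^ (x + y).natAbs = (-1 : R) ^ x.natAbs * (-1 : R) ^ y.natAbs := by
  rw [← pow_add]
  simp only [neg_one_pow_eq_ite, Int.natAbs_even, Nat.even_add, Int.even_add]

theorem proj_comp_comp_single (f g : (Π k, M k) →ₗ[R] (Π k, M k)) (i : ι) :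
    (LinearMap.proj i) ∘ₗ (f ∘ₗ g) ∘ₗ (LinearMap.single R M i) =
      ∑ j, ((LinearMap.proj i) ∘ₗ f ∘ₗ (LinearMap.single R M j)) ∘ₗ
        ((LinearMap.proj j) ∘ₗ g ∘ₗ (LinearMap.single R M i)) := by
  refine LinearMap.ext fun x => ?_
  simp only [LinearMap.sum_apply, LinearMap.comp_apply, LinearMap.proj_apply]
  conv_lhs => rw [show g (LinearMap.single R M i x) =
    ∑ j, LinearMap.single R M j (g (LinearMap.single R M i x) j) from
      (Finset.univ_sum_single _).symm, map_sum, Finset.sum_apply]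

theorem supertrace_commutator [∀ x, Module.Free R (M x)] [∀ x, Module.Finite R (M x)]
    (deg : ι → ℤ) (a b : ℤ) (φ ψ : (Π k, M k) →ₗ[R] (Π k, M k))
    (hφ : ∀ i j : ι, deg j ≠ deg i + a → (LinearMap.proj j) ∘ₗ φ ∘ₗ (LinearMap.single R M i) = 0)
    (hψ : ∀ i j : ι, deg j ≠ deg i + b → (LinearMap.proj j) ∘ₗ ψ ∘ₗ (LinearMap.single R M i) = 0) :
    LinearMap.trace R (Π k, M k)
      (invol deg ∘ₗ (φ ∘ₗ ψ - ((-1 : R) ^ (a * b).natAbs) • (ψ ∘ₗ φ))) = 0 := by
  rw [trace_eq_sum_blocks]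
  simp only [← LinearMap.comp_assoc _ _ (LinearMap.proj _)]
  simp only [LinearMap.comp_assoc _ _ (LinearMap.proj _), proj_invol, LinearMap.comp_sub, LinearMap.sub_comp, LinearMap.comp_smul,
    LinearMap.smul_comp, map_sub, map_smul, smul_eq_mul]
  simp only [proj_comp_comp_single, map_sum, Finset.mul_sum, mul_sub, Finset.sum_sub_distrib, ← mul_assoc]
  conv_lhs => arg 2; rw [Finset.sum_comm]
  rw [sub_eq_zero]
  refine Finset.sum_congr rfl fun i _ => Finset.sum_congr rfl fun j _ => ?_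
  rw [LinearMap.trace_comp_comm']
  by_cases h1 : deg i = deg j + a
  · by_cases h2 : deg j = deg i + b
    · congr 1
      obtain rfl : b = -a := by omega
      rw [h1, neg_one_pow_natAbs_add, mul_comm]
      congr 1
      simp only [neg_one_pow_eq_ite, Int.natAbs_even, Int.even_mul, even_neg, or_self]
    · rw [hψ i j h2]; simp
  · rw [hφ j i h1]; simp

theorem supertrace_of_degree_ne_zero [∀ x, Module.Free R (M x)] [∀ x, Module.Finite R (M x)]
    (deg : ι → ℤ) (a : ℤ) (ha : a ≠ 0) (φ : (Π k, M k) →ₗ[R] (Π k, M k))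
    (hφ : ∀ i j : ι, deg j ≠ deg i + a → (LinearMap.proj j) ∘ₗ φ ∘ₗ (LinearMap.single R M i) = 0) :
    LinearMap.trace R (Π k, M k) (invol deg ∘ₗ φ) = 0 := by
  rw [trace_eq_sum_blocks]
  refine Finset.sum_eq_zero fun i _ => ?_
  rw [← LinearMap.comp_assoc, ← LinearMap.comp_assoc, LinearMap.comp_assoc _ _ (LinearMap.proj i),
    proj_invol, LinearMap.smul_comp, LinearMap.comp_assoc, hφ i i (by omega)]
  simp

end Groth.Agent.H88.SuperTrace
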